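import Groth.Agent.Ega41Adic.RegularOfSmooth
import Groth.Agent.Variety2.DimAffine
import Mathlib.RingTheory.RegularLocalRing.Polynomial
import Mathlib.RingTheory.Etale.Kaehler
import Mathlib.RingTheory.Kaehler.Polynomial
import Mathlib.FieldTheory.IntermediateField.Adjoin.Algebra

/-! The rank of the differentials of a formally smooth local algebra at the residue field. -/

universe u

namespace Groth.Ega41Adic

open IsLocalRing TensorProduct

theorem height_add_ringKrullDim_quotient (k : Type u) [Field k] (σ : Type) [Finite σ]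
    (q : Ideal (MvPolynomial σ k)) [hq : q.IsPrime] :
    (q.height : WithBot ℕ∞) + ringKrullDim (MvPolynomial σ k ⧸ q) = (Nat.card σ : ℕ) := by
  have hdim : ringKrullDim (MvPolynomial σ k) = (Nat.card σ : ℕ) := by
    rw [MvPolynomial.ringKrullDim_of_isNoetherianRing, ringKrullDim_eq_zero_of_field]; simp
  let x : PrimeSpectrum (MvPolynomial σ k) := ⟨q, hq⟩
  have hfin : Order.height x ≠ ⊤ := by
    have := Ideal.height_ne_top (I := q) hq.ne_top
    change x.asIdeal.height ≠ ⊤ at this
    rwa [PrimeSpectrum.height_eq_orderHeight] at this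
  obtain ⟨h, hh⟩ := ENat.ne_top_iff_exists.mp hfin
  obtain ⟨l, hl, hlen⟩ := Order.exists_series_of_height_eq_coe x hh.symm
  have hhead : l.head = (⊥ : PrimeSpectrum (MvPolynomial σ k)) := by
    by_contra hne
    have h1 := Order.length_le_height (p := l.cons ⊥ (bot_lt_iff_ne_bot.mpr hne)) (x := x) (by
      rw [RelSeries.last_cons]; exact hl.le)
    rw [← hh] at h1
    have h2 : (l.cons ⊥ (bot_lt_iff_ne_bot.mpr hne)).length ≤ h := by exact_mod_cast h1
    simp [RelSeries.cons, RelSeries.append, hlen] at h2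
  have hsat : ∀ i : Fin l.length, l i.castSucc ⋖ l i.succ := by
    refine fun i => ⟨l.step i, fun c h1 h2 => ?_⟩
    have h3 := Order.length_le_height (p := l.insertNth i c h1 h2) (x := x) (by
      show (Fin.castSucc i.succ).insertNth (α := fun _ => PrimeSpectrum _) c l (Fin.last _) ≤ x
      rw [← Fin.succ_last, Fin.insertNth_apply_above (by simp [Fin.lt_def])]
      simp only [Fin.pred_succ, eq_rec_constant]
      exact hl.le)
    rw [← hh] at h3
    have h4 : (l.insertNth i c h1 h2).length ≤ h := by exact_mod_cast h3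
    simp [RelSeries.insertNth, hlen] at h4
  have := Groth.Variety2.Dim.ringKrullDim_quotient_add_length k (MvPolynomial σ k) l hsat (Fin.last _)
  rw [show l (Fin.last _) = x from hl, hhead, Fin.val_last, hlen] at this
  have e : ringKrullDim (MvPolynomial σ k ⧸ (⊥ : PrimeSpectrum (MvPolynomial σ k)).asIdeal) =
      ringKrullDim (MvPolynomial σ k) := ringKrullDim_eq_of_ringEquiv (RingEquiv.quotientBot _)
  rw [e, hdim] at this
  have hx : q.height = (h : ℕ∞) := by
    show x.asIdeal.height = _
    rw [PrimeSpectrum.height_eq_orderHeight, hh]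
  rw [hx, add_comm, ← this]
  rfl

section compare

variable {k A R : Type u} [Field k] [CommRing A] [IsLocalRing A] [Algebra k A] [CommRing R] [IsLocalRing R]
  [Algebra k R] [Algebra R A] [IsScalarTower k R A] [IsLocalHom (algebraMap R A)]

theorem surjective_residue_of_mod_sq (hall : ∀ a : A, ∃ r : R, a - algebraMap R A r ∈ maximalIdeal A ^ 2) :
    Function.Surjective (algebraMap R (ResidueField A)) := fun y => by
  obtain ⟨a, rfl⟩ := residue_surjective y
  obtain ⟨r, hr⟩ := hall a
  exact ⟨r, (sub_eq_zero.mp (((map_sub (residue A) a _).symm).trans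
    ((residue_eq_zero_iff _).mpr (Ideal.pow_le_self two_ne_zero hr)))).symm⟩

/-- The lift defining a derivation. -/
theorem exists_derivation_of_formallySmooth (hA : CAlgX.IsAdicFormallySmooth k A (maximalIdeal A))
    (hall : ∀ a : A, ∃ r : R, a - algebraMap R A r ∈ maximalIdeal A ^ 2) (L : Ideal R)
    (hLU : L ≤ (maximalIdeal A ^ 2).comap (algebraMap R A)) (hL2 : maximalIdeal R ^ 2 ≤ L) :
    ∃ δ : Derivation k R (R ⧸ L),
      (∀ x ∈ (maximalIdeal A ^ 2).comap (algebraMap R A), δ x = Ideal.Quotient.mk L x) ∧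
      ∀ r, δ r ∈ ((maximalIdeal A ^ 2).comap (algebraMap R A)).map (Ideal.Quotient.mk L) := by
  let U : Ideal R := (maximalIdeal A ^ 2).comap (algebraMap R A)
  have hmmem : ∀ r : R, r ∈ maximalIdeal R → algebraMap R A r ∈ maximalIdeal A := fun r hr =>
    map_nonunit (algebraMap R A) r hr
  have hmap : ∀ r : R, algebraMap R A r ∈ maximalIdeal A → r ∈ maximalIdeal R := fun r hr => by
    by_contra hu
    exact (notMem_maximalIdeal.mpr ((notMem_maximalIdeal.mp hu).map (algebraMap R A))) hr
  have hUq : U ≤ maximalIdeal R := fun x hx => hmap x (Ideal.pow_le_self two_ne_zero hx)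
  let J : Ideal (R ⧸ L) := U.map (Ideal.Quotient.mk L)
  have hJ0 : ∀ a ∈ J, ∀ b ∈ J, a * b = 0 := by
    intro a ha b hb
    obtain ⟨a, ha', rfl⟩ := (Ideal.mem_map_iff_of_surjective _ Ideal.Quotient.mk_surjective).mp ha
    obtain ⟨b, hb', rfl⟩ := (Ideal.mem_map_iff_of_surjective _ Ideal.Quotient.mk_surjective).mp hb
    rw [← map_mul, Ideal.Quotient.eq_zero_iff_mem]
    exact hL2 (by rw [sq]; exact Ideal.mul_mem_mul (hUq ha') (hUq hb'))
  have hJ : J ^ 2 = ⊥ := by
    rw [sq, eq_bot_iff, Ideal.mul_le]
    exact fun a ha b hb => Ideal.mem_bot.mpr (hJ0 a ha b hb)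
  let eJ : ((R ⧸ L) ⧸ J) ≃ₐ[k] R ⧸ U := DoubleQuot.quotQuotEquivQuotOfLEₐ k hLU
  let φ : (R ⧸ U) →ₐ[k] A ⧸ maximalIdeal A ^ 2 :=
    Ideal.quotientMapₐ _ (IsScalarTower.toAlgHom k R A) le_rfl
  have hφ : Function.Bijective φ := by
    constructor
    · rw [injective_iff_map_eq_zero]
      intro y hy
      obtain ⟨y, rfl⟩ := Ideal.Quotient.mk_surjective y
      exact Ideal.Quotient.eq_zero_iff_mem.mpr (show algebraMap R A y ∈ _ from Ideal.Quotient.eq_zero_iff_mem.mp hy)
    · intro y
      obtain ⟨y, rfl⟩ := Ideal.Quotient.mk_surjective y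
      obtain ⟨r, hr⟩ := hall y
      exact ⟨Ideal.Quotient.mk _ r, (Ideal.Quotient.eq.mpr hr).symm⟩
  let e := AlgEquiv.ofBijective φ hφ
  let u : A →ₐ[k] (R ⧸ L) ⧸ J :=
    eJ.symm.toAlgHom.comp (e.symm.toAlgHom.comp (Ideal.Quotient.mkₐ k (maximalIdeal A ^ 2)))
  obtain ⟨v, hv⟩ := hA (R ⧸ L) J hJ u ⟨2, fun y hy => by
    show eJ.symm (e.symm (Ideal.Quotient.mk _ y)) = 0
    rw [Ideal.Quotient.eq_zero_iff_mem.mpr hy, map_zero, map_zero]⟩
  have hvr : ∀ r : R, Ideal.Quotient.mk J (v (algebraMap R A r)) = Ideal.Quotient.mk J (Ideal.Quotient.mk L r) := fun r => by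
    rw [show Ideal.Quotient.mk J (v _) = u _ from AlgHom.congr_fun hv _]
    apply eJ.injective
    show eJ (eJ.symm (e.symm (Ideal.Quotient.mk _ (algebraMap R A r)))) = _
    rw [AlgEquiv.apply_symm_apply, AlgEquiv.symm_apply_eq]
    rfl
  have hmem : ∀ r, Ideal.Quotient.mk L r - v (algebraMap R A r) ∈ J := fun r => Ideal.Quotient.eq.mp (hvr r).symm
  have hadd : ∀ r s : R, Ideal.Quotient.mk L (r + s) - v (algebraMap R A (r + s)) =
      (Ideal.Quotient.mk L r - v (algebraMap R A r)) + (Ideal.Quotient.mk L s - v (algebraMap R A s)) := fun r s => by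
    rw [map_add (Ideal.Quotient.mk L), map_add (algebraMap R A), map_add v]; ring
  have hsmul : ∀ (c : k) (r : R), Ideal.Quotient.mk L (c • r) - v (algebraMap R A (c • r)) =
      c • (Ideal.Quotient.mk L r - v (algebraMap R A r)) := fun c r => by
    rw [smul_sub, Algebra.smul_def, map_mul, map_mul, map_mul, ← IsScalarTower.algebraMap_apply k R A,
      AlgHom.commutes, Algebra.smul_def, Algebra.smul_def, IsScalarTower.algebraMap_apply k R (R ⧸ L)]
    rfl
  let δ : Derivation k R (R ⧸ L) := Derivation.mk'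
    { toFun := fun r => Ideal.Quotient.mk L r - v (algebraMap R A r)
      map_add' := hadd
      map_smul' := hsmul }
    (fun r s => by
      show Ideal.Quotient.mk L (r * s) - v (algebraMap R A (r * s)) =
        r • (Ideal.Quotient.mk L s - v (algebraMap R A s)) + s • (Ideal.Quotient.mk L r - v (algebraMap R A r))
      have := hJ0 _ (hmem r) _ (hmem s)
      rw [map_mul, map_mul, map_mul, Algebra.smul_def, Algebra.smul_def, Ideal.Quotient.algebraMap_eq]
      linear_combination -this)
  refine ⟨δ, fun x hx => ?_, hmem⟩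
  have hmv : (maximalIdeal A).map v.toRingHom ≤ (maximalIdeal R).map (Ideal.Quotient.mk L) := by
    rw [Ideal.map_le_iff_le_comap]
    intro y hy
    obtain ⟨r, hr⟩ := hall y
    have hr' : r ∈ maximalIdeal R := hmap r (by
      rw [show algebraMap R A r = y - (y - algebraMap R A r) by ring]
      exact sub_mem hy (Ideal.pow_le_self two_ne_zero hr))
    have h1 : Ideal.Quotient.mk J (v y) = Ideal.Quotient.mk J (Ideal.Quotient.mk L r) := by
      rw [← hvr r, show Ideal.Quotient.mk J (v y) = u y from AlgHom.congr_fun hv _,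
        show Ideal.Quotient.mk J (v (algebraMap R A r)) = u _ from AlgHom.congr_fun hv _]
      show eJ.symm (e.symm (Ideal.Quotient.mk _ y)) = eJ.symm (e.symm (Ideal.Quotient.mk _ _))
      rw [Ideal.Quotient.eq.mpr hr]
    rw [Ideal.mem_comap]
    show v y ∈ _
    rw [show v y = (v y - Ideal.Quotient.mk L r) + Ideal.Quotient.mk L r by ring]
    exact add_mem (Ideal.map_mono hUq (Ideal.Quotient.eq.mp h1)) (Ideal.mem_map_of_mem _ hr')
  have h2 := Ideal.pow_right_mono hmv 2 (by rw [← Ideal.map_pow]; exact Ideal.mem_map_of_mem v.toRingHom hx)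
  rw [← Ideal.map_pow] at h2
  have h3 : v (algebraMap R A x) = 0 := Ideal.mem_bot.mp (((Ideal.map_mono hL2).trans (Ideal.map_quotient_self L).le) h2)
  show Ideal.Quotient.mk L x - v (algebraMap R A x) = _
  rw [h3, sub_zero]

/-- `q / q² → Ω_{R/k} ⊗ K` is injective on the kernel of `q/q² → m/m²`. -/
theorem tmul_D_eq_zero_iff (hA : CAlgX.IsAdicFormallySmooth k A (maximalIdeal A))
    (hall : ∀ a : A, ∃ r : R, a - algebraMap R A r ∈ maximalIdeal A ^ 2) {x : R}
    (hx : algebraMap R A x ∈ maximalIdeal A ^ 2) :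
    (1 : ResidueField A) ⊗ₜ[R] KaehlerDifferential.D k R x = 0 ↔ x ∈ maximalIdeal R ^ 2 := by
  classical
  have hmmem : ∀ r : R, r ∈ maximalIdeal R → algebraMap R A r ∈ maximalIdeal A := fun r hr =>
    map_nonunit (algebraMap R A) r hr
  have hmap : ∀ r : R, algebraMap R A r ∈ maximalIdeal A → r ∈ maximalIdeal R := fun r hr => by
    by_contra hu
    exact (notMem_maximalIdeal.mpr ((notMem_maximalIdeal.mp hu).map (algebraMap R A))) hr
  let U : Ideal R := (maximalIdeal A ^ 2).comap (algebraMap R A)
  have hUq : U ≤ maximalIdeal R := fun x hx => hmap x (Ideal.pow_le_self two_ne_zero hx)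
  let K := ResidueField A
  have hsmul0 : ∀ (y : R) (w : K ⊗[R] Ω[R⁄k]), y ∈ maximalIdeal R → y • w = 0 := fun y w hy => by
    rw [← algebraMap_smul K y w, show algebraMap R K y = 0 from (residue_eq_zero_iff _).mpr (hmmem y hy), zero_smul]
  constructor
  · intro hd
    by_contra hx2
    let Kq := ResidueField R
    have hne : (maximalIdeal R).toCotangent ⟨x, hUq hx⟩ ≠ 0 := fun h0 => hx2 ((Ideal.toCotangent_eq_zero _ _).mp h0)
    obtain ⟨lam, hlam⟩ := Module.Projective.exists_dual_ne_zero Kq
      (show ((maximalIdeal R).toCotangent ⟨x, hUq hx⟩ : CotangentSpace R) ≠ 0 from hne)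
    let L : Ideal R :=
      { carrier := {y | ∃ hy : y ∈ U, lam ((maximalIdeal R).toCotangent ⟨y, hUq hy⟩) = 0}
        add_mem' := by
          rintro y z ⟨hy, hy'⟩ ⟨hz, hz'⟩
          refine ⟨add_mem hy hz, ?_⟩
          rw [show (⟨y + z, hUq (add_mem hy hz)⟩ : maximalIdeal R) = ⟨y, hUq hy⟩ + ⟨z, hUq hz⟩ from rfl, map_add, map_add, hy', hz', add_zero]
        zero_mem' := ⟨zero_mem _, by rw [show (⟨0, hUq (zero_mem _)⟩ : maximalIdeal R) = 0 from rfl, map_zero, map_zero]⟩
        smul_mem' := by
          rintro c y ⟨hy, hy'⟩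
          refine ⟨U.smul_mem c hy, ?_⟩
          rw [show (⟨c • y, hUq (U.smul_mem c hy)⟩ : maximalIdeal R) = c • ⟨y, hUq hy⟩ from rfl, map_smul,
            ← algebraMap_smul Kq c ((maximalIdeal R).toCotangent _), map_smul, hy', smul_zero] }
    have hLU : L ≤ U := fun y hy => hy.choose
    have hL2 : maximalIdeal R ^ 2 ≤ L := fun y hy => by
      have hyU : y ∈ U := by
        show algebraMap R A y ∈ maximalIdeal A ^ 2
        have := Ideal.mem_map_of_mem (algebraMap R A) hy
        rw [Ideal.map_pow] at this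
        exact Ideal.pow_right_mono (Ideal.map_le_iff_le_comap.mpr hmmem) 2 this
      refine ⟨hyU, ?_⟩
      rw [(Ideal.toCotangent_eq_zero _ _).mpr hy, map_zero]
    have hxL : x ∉ L := fun ⟨_, h⟩ => hlam h
    obtain ⟨δ, hδ, hδJ⟩ := exists_derivation_of_formallySmooth hA hall L hLU hL2
    have hsurjK : Function.Surjective (Algebra.ofId R K).toLinearMap := surjective_residue_of_mod_sq hall
    have hkerK : LinearMap.ker (Algebra.ofId R K).toLinearMap = maximalIdeal R := by
      ext y
      exact ⟨fun h => hmap y ((residue_eq_zero_iff _).mp h), fun h => (residue_eq_zero_iff _).mpr (hmmem y h)⟩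
    let eK : (R ⧸ maximalIdeal R) ≃ₗ[R] K :=
      (Submodule.quotEquivOfEq _ _ hkerK.symm).trans ((Algebra.ofId R K).toLinearMap.quotKerEquivOfSurjective hsurjK)
    have heK : eK (Ideal.Quotient.mk _ 1) = 1 := map_one (algebraMap R K)
    have h1 : (Ideal.Quotient.mk (maximalIdeal R) (1 : R)) ⊗ₜ[R] KaehlerDifferential.D k R x = 0 := by
      apply (TensorProduct.congr eK (LinearEquiv.refl R Ω[R⁄k])).injective
      rw [TensorProduct.congr_tmul, heK, map_zero, LinearEquiv.refl_apply]
      exact hd
    have h2 : KaehlerDifferential.D k R x ∈ maximalIdeal R • (⊤ : Submodule R Ω[R⁄k]) := by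
      have h3 := congrArg (TensorProduct.quotTensorEquivQuotSMul Ω[R⁄k] (maximalIdeal R)) h1
      rw [map_zero, TensorProduct.quotTensorEquivQuotSMul_mk_tmul, one_smul] at h3
      exact (Submodule.Quotient.mk_eq_zero _).mp h3
    have hkill : ∀ y ∈ maximalIdeal R, ∀ z ∈ U, (Ideal.Quotient.mk L (y * z) : R ⧸ L) = 0 := fun y hy z hz =>
      Ideal.Quotient.eq_zero_iff_mem.mpr (hL2 (by rw [sq]; exact Ideal.mul_mem_mul hy (hUq hz)))
    have h5 : δ.liftKaehlerDifferential (KaehlerDifferential.D k R x) ∈
        maximalIdeal R • LinearMap.range δ.liftKaehlerDifferential := by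
      rw [← Submodule.map_top, ← Submodule.map_smul'']
      exact Submodule.mem_map_of_mem h2
    rw [Derivation.liftKaehlerDifferential_comp_D, hδ x hx] at h5
    let J' : Submodule R (R ⧸ L) := ((maximalIdeal A ^ 2).comap (algebraMap R A)).map (Ideal.Quotient.mk L) |>.restrictScalars R
    have hrange : LinearMap.range δ.liftKaehlerDifferential ≤ J' := by
      rintro _ ⟨ω, rfl⟩
      induction (show ω ∈ Submodule.span R (Set.range (KaehlerDifferential.D k R)) by
          rw [KaehlerDifferential.span_range_derivation]; trivial) using Submodule.span_induction with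
      | mem z hz =>
        obtain ⟨r, rfl⟩ := hz
        rw [Derivation.liftKaehlerDifferential_comp_D]
        exact hδJ r
      | zero => rw [map_zero]; exact zero_mem _
      | add y z _ _ hy hz => rw [map_add]; exact add_mem hy hz
      | smul b y _ hy => rw [map_smul]; exact J'.smul_mem b hy
    have h6 : maximalIdeal R • J' ≤ ⊥ := Submodule.smul_le.mpr fun y hy w hw => by
      obtain ⟨z, hz, rfl⟩ := (Ideal.mem_map_iff_of_surjective _ Ideal.Quotient.mk_surjective).mp hw
      exact (Submodule.mem_bot R).mpr (hkill y hy z hz)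
    exact hxL (Ideal.Quotient.eq_zero_iff_mem.mp ((Submodule.mem_bot R).mp (h6 (smul_mono_right _ hrange h5))))
  · intro hx2
    rw [sq] at hx2
    refine Submodule.mul_induction_on hx2 ?_ ?_
    · intro b hb c hc
      rw [Derivation.leibniz, tmul_add, tmul_smul, tmul_smul, hsmul0 _ _ hb, hsmul0 _ _ hc, add_zero]
    · intro b c hb hc
      rw [map_add, tmul_add, hb, hc, add_zero]

theorem exists_comparison_derivation (hall : ∀ a : A, ∃ r : R, a - algebraMap R A r ∈ maximalIdeal A ^ 2)
    {Q : Type u} [AddCommGroup Q] [Module A Q] [Module k Q] [Module R Q] [IsScalarTower R A Q] [IsScalarTower k A Q]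
    (d : Derivation k R Q) (hd : ∀ x, algebraMap R A x ∈ maximalIdeal A ^ 2 → d x = 0)
    (hQ : ∀ a ∈ maximalIdeal A, ∀ w : Q, a • w = 0) :
    ∃ δ : Derivation k A Q, ∀ r, δ (algebraMap R A r) = d r := by
  choose sec hsec using hall
  have hwd : ∀ (r : R) (a : A), a - algebraMap R A r ∈ maximalIdeal A ^ 2 → d r = d (sec a) := fun r a h => by
    rw [← sub_eq_zero, ← map_sub]
    refine hd _ ?_
    rw [map_sub, show algebraMap R A r - algebraMap R A (sec a) = (a - algebraMap R A (sec a)) - (a - algebraMap R A r) by ring]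
    exact sub_mem (hsec a) h
  have hact : ∀ (a : A) (w : Q), sec a • w = a • w := fun a w => by
    rw [← algebraMap_smul A (sec a) w, ← sub_eq_zero, ← sub_smul]
    refine hQ _ ?_ w
    rw [← neg_sub]
    exact neg_mem (Ideal.pow_le_self two_ne_zero (hsec a))
  refine ⟨Derivation.mk'
    { toFun := fun a => d (sec a)
      map_add' := fun a b => by
        rw [← hwd (sec a + sec b) (a + b) (by rw [map_add, add_sub_add_comm]; exact add_mem (hsec a) (hsec b)), map_add]
      map_smul' := fun c a => by
        rw [← hwd (c • sec a) (c • a) (by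
          rw [Algebra.smul_def c a, Algebra.smul_def c (sec a), map_mul, ← IsScalarTower.algebraMap_apply, ← mul_sub]
          exact Ideal.mul_mem_left _ _ (hsec a)), Derivation.map_smul]
        rfl }
    (fun a b => by
      show d (sec (a * b)) = a • d (sec b) + b • d (sec a)
      rw [← hwd (sec a * sec b) (a * b) (by
        rw [map_mul, show a * b - algebraMap R A (sec a) * algebraMap R A (sec b) =
          (a - algebraMap R A (sec a)) * b + algebraMap R A (sec a) * (b - algebraMap R A (sec b)) by ring]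
        exact add_mem (Ideal.mul_mem_right _ _ (hsec a)) (Ideal.mul_mem_left _ _ (hsec b))), Derivation.leibniz,
        hact, hact]), fun r => ?_⟩
  exact (hwd r _ (by rw [sub_self]; exact zero_mem _)).symm

/-- Comparison of differentials at the residue field. -/
theorem finrank_kaehler_compare [IsNoetherianRing R] [IsNoetherianRing A]
    (hA : CAlgX.IsAdicFormallySmooth k A (maximalIdeal A))
    (hall : ∀ a : A, ∃ r : R, a - algebraMap R A r ∈ maximalIdeal A ^ 2)
    [Module.Finite (ResidueField A) (ResidueField A ⊗[R] Ω[R⁄k])] :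
    Module.Finite (ResidueField A) (ResidueField A ⊗[A] Ω[A⁄k]) ∧
      Module.finrank (ResidueField A) (ResidueField A ⊗[R] Ω[R⁄k]) + Module.finrank (ResidueField A) (CotangentSpace A) =
        Module.finrank (ResidueField A) (ResidueField A ⊗[A] Ω[A⁄k]) +
          Module.finrank (ResidueField R) (CotangentSpace R) := by
  classical
  let K := ResidueField A
  have hmmem : ∀ r : R, r ∈ maximalIdeal R → algebraMap R A r ∈ maximalIdeal A := fun r hr =>
    map_nonunit (algebraMap R A) r hr
  have hmap : ∀ r : R, algebraMap R A r ∈ maximalIdeal A → r ∈ maximalIdeal R := fun r hr => by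
    by_contra hu
    exact (notMem_maximalIdeal.mpr ((notMem_maximalIdeal.mp hu).map (algebraMap R A))) hr
  have hsurjK : Function.Surjective (algebraMap R K) := surjective_residue_of_mod_sq hall
  let U : Ideal R := (maximalIdeal A ^ 2).comap (algebraMap R A)
  have hUq : U ≤ maximalIdeal R := fun x hx => hmap x (Ideal.pow_le_self two_ne_zero hx)
  have hsmul0 : ∀ (x : R) (w : K ⊗[R] Ω[R⁄k]), x ∈ maximalIdeal R → x • w = 0 := fun x w hx => by
    rw [← algebraMap_smul K x w, show algebraMap R K x = 0 from (residue_eq_zero_iff _).mpr (hmmem x hx), zero_smul]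
  let hU : U →ₗ[R] K ⊗[R] Ω[R⁄k] :=
    { toFun := fun x => (1 : K) ⊗ₜ[R] KaehlerDifferential.D k R x
      map_add' := fun x y => by simp only [Submodule.coe_add, map_add, tmul_add]
      map_smul' := fun c x => by
        simp only [Submodule.coe_smul, smul_eq_mul, Derivation.leibniz, tmul_add, tmul_smul, RingHom.id_apply]
        rw [hsmul0 (x : R) _ (hUq x.2), add_zero] }
  let qc : U →ₗ[R] (maximalIdeal R).Cotangent := (maximalIdeal R).toCotangent ∘ₗ Submodule.inclusion hUq
  have hkerh : LinearMap.ker hU = LinearMap.ker qc := by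
    ext ⟨x, hx⟩
    exact (tmul_D_eq_zero_iff hA hall hx).trans (Ideal.toCotangent_eq_zero _ (⟨x, hUq hx⟩ : maximalIdeal R)).symm
  let g : Ω[R⁄k] →ₗ[R] K ⊗[A] Ω[A⁄k] :=
    (TensorProduct.mk A K Ω[A⁄k] 1).restrictScalars R ∘ₗ KaehlerDifferential.map k k R A
  let L1 : K ⊗[R] Ω[R⁄k] →ₗ[K] K ⊗[A] Ω[A⁄k] := g.liftBaseChange K
  have hL1 : ∀ r : R, L1 ((1 : K) ⊗ₜ[R] KaehlerDifferential.D k R r) =
      (1 : K) ⊗ₜ[A] KaehlerDifferential.D k A (algebraMap R A r) := fun r => by
    simp [L1, g, KaehlerDifferential.map_D]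
  have hsq0 : ∀ a ∈ maximalIdeal A ^ 2, (1 : K) ⊗ₜ[A] KaehlerDifferential.D k A a = 0 := by
    intro a ha
    rw [sq] at ha
    refine Submodule.mul_induction_on ha ?_ ?_
    · intro b hb c hc
      rw [Derivation.leibniz, tmul_add, tmul_smul, tmul_smul, ← algebraMap_smul K b, ← algebraMap_smul K c,
        show algebraMap A K b = 0 from (residue_eq_zero_iff _).mpr hb, show algebraMap A K c = 0 from (residue_eq_zero_iff _).mpr hc,
        zero_smul, zero_smul, add_zero]
    · intro b c hb hc
      rw [map_add, tmul_add, hb, hc, add_zero]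
  let Sp : Submodule K (K ⊗[R] Ω[R⁄k]) := Submodule.span K (LinearMap.range hU : Set (K ⊗[R] Ω[R⁄k]))
  let Q := (K ⊗[R] Ω[R⁄k]) ⧸ Sp
  let dR : Derivation k R Q :=
    ((Sp.mkQ.restrictScalars R) ∘ₗ TensorProduct.mk R K Ω[R⁄k] 1).compDer (KaehlerDifferential.D k R)
  obtain ⟨δA, hδA⟩ := exists_comparison_derivation hall dR (fun x hx =>
      (Submodule.Quotient.mk_eq_zero Sp).mpr (Submodule.subset_span ⟨⟨x, hx⟩, rfl⟩))
    (fun a ha w => by rw [← algebraMap_smul K a w, show algebraMap A K a = 0 from (residue_eq_zero_iff _).mpr ha, zero_smul])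
  let M2 : K ⊗[A] Ω[A⁄k] →ₗ[K] Q := δA.liftKaehlerDifferential.liftBaseChange K
  have hspanR : Submodule.span K (Set.range fun r => (1 : K) ⊗ₜ[R] KaehlerDifferential.D k R r) = ⊤ := by
    rw [eq_top_iff]
    intro w hw
    clear hw
    induction w using TensorProduct.induction_on with
    | zero => exact zero_mem _
    | add y z hy hz => exact add_mem hy hz
    | tmul c ω =>
      induction (show ω ∈ Submodule.span R (Set.range (KaehlerDifferential.D k R)) by
          rw [KaehlerDifferential.span_range_derivation]; trivial) using Submodule.span_induction generalizing c with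
      | mem z hz =>
        obtain ⟨r, rfl⟩ := hz
        rw [show c ⊗ₜ[R] KaehlerDifferential.D k R r = c • ((1 : K) ⊗ₜ[R] KaehlerDifferential.D k R r) by
          rw [TensorProduct.smul_tmul', smul_eq_mul, mul_one]]
        exact Submodule.smul_mem _ c (Submodule.subset_span ⟨r, rfl⟩)
      | zero => rw [tmul_zero]; exact zero_mem _
      | add y z _ _ hy hz => rw [tmul_add]; exact add_mem (hy c) (hz c)
      | smul b y _ hy => rw [tmul_smul, smul_tmul']; exact hy _
  have hcomp : M2 ∘ₗ L1 = Sp.mkQ := LinearMap.ext_on hspanR (by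
    rintro _ ⟨r, rfl⟩
    rw [LinearMap.comp_apply, hL1]
    simp only [M2, LinearMap.liftBaseChange_tmul, Derivation.liftKaehlerDifferential_comp_D, one_smul, hδA]
    rfl)
  have hker : LinearMap.ker L1 = Sp := by
    refine le_antisymm ?_ (Submodule.span_le.mpr ?_)
    · intro w hw
      have := LinearMap.congr_fun hcomp w
      rw [LinearMap.comp_apply, LinearMap.mem_ker.mp hw, map_zero] at this
      exact (Submodule.Quotient.mk_eq_zero _).mp this.symm
    · rintro _ ⟨⟨x, hx⟩, rfl⟩
      exact (hL1 x).trans (hsq0 _ hx)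
  have hL1surj : Function.Surjective L1 := by
    rw [← LinearMap.range_eq_top, eq_top_iff]
    intro w hw
    clear hw
    induction w using TensorProduct.induction_on with
    | zero => exact zero_mem _
    | add y z hy hz => exact add_mem hy hz
    | tmul c ω =>
      induction (show ω ∈ Submodule.span A (Set.range (KaehlerDifferential.D k A)) by
          rw [KaehlerDifferential.span_range_derivation]; trivial) using Submodule.span_induction generalizing c with
      | mem z hz =>
        obtain ⟨a, rfl⟩ := hz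
        obtain ⟨r, hr⟩ := hall a
        refine ⟨c • ((1 : K) ⊗ₜ[R] KaehlerDifferential.D k R r), ?_⟩
        have h0 := hsq0 _ hr
        rw [map_sub, tmul_sub, sub_eq_zero] at h0
        rw [map_smul, hL1, ← h0, TensorProduct.smul_tmul', smul_eq_mul, mul_one]
      | zero => rw [tmul_zero]; exact zero_mem _
      | add y z _ _ hy hz => rw [tmul_add]; exact add_mem (hy c) (hz c)
      | smul b y _ hy => rw [tmul_smul, smul_tmul']; exact hy _
  haveI hfinA : Module.Finite K (K ⊗[A] Ω[A⁄k]) := Module.Finite.of_surjective L1 hL1surj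
  refine ⟨hfinA, ?_⟩
  have hrn := LinearMap.finrank_range_add_finrank_ker L1
  rw [LinearMap.range_eq_top.mpr hL1surj, finrank_top, hker] at hrn
  have hlenK : ∀ (M : Type u) [AddCommGroup M] [Module R M] [Module K M] [IsScalarTower R K M] [Module.Finite K M],
      Module.length R M = Module.finrank K M := fun M _ _ _ _ _ => by
    rw [Module.length_eq_of_surjective (S := R) (R := K) hsurjK, Module.length_eq_finrank]
  have hrange : (Sp.restrictScalars R) = LinearMap.range hU := by
    rw [Submodule.restrictScalars_span R K hsurjK, Submodule.span_eq]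
  have hlenS : Module.length R (LinearMap.range qc) = Module.finrank K Sp := by
    rw [← hlenK Sp]
    exact ((LinearMap.quotKerEquivRange qc).symm ≪≫ₗ (Submodule.quotEquivOfEq _ _ hkerh.symm) ≪≫ₗ
      (LinearMap.quotKerEquivRange hU) ≪≫ₗ LinearEquiv.ofEq _ _ hrange.symm ≪≫ₗ
      (Submodule.restrictScalarsEquiv R K _ Sp).restrictScalars R).length_eq
  let Φ : (maximalIdeal R).Cotangent →ₗ[R] (maximalIdeal A).Cotangent :=
    Ideal.mapCotangent (maximalIdeal R) (maximalIdeal A) (Algebra.ofId R A) (fun r hr => hmmem r hr)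
  have hΦ : Function.Surjective Φ := fun y => by
    obtain ⟨⟨m, hm⟩, rfl⟩ := Ideal.toCotangent_surjective _ y
    obtain ⟨r, hr⟩ := hall m
    have hr' : r ∈ maximalIdeal R := hmap r (by
      rw [show algebraMap R A r = m - (m - algebraMap R A r) by ring]
      exact sub_mem hm (Ideal.pow_le_self two_ne_zero hr))
    exact ⟨(maximalIdeal R).toCotangent ⟨r, hr'⟩, ((Ideal.toCotangent_eq (maximalIdeal A)).mpr hr).symm⟩
  have hΦker : Function.Exact (LinearMap.range qc).subtype Φ := by
    intro y
    obtain ⟨⟨r, hr⟩, rfl⟩ := Ideal.toCotangent_surjective _ y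
    constructor
    · intro h
      have hrU : r ∈ U := (Ideal.toCotangent_eq_zero _ _).mp h
      exact ⟨⟨_, ⟨⟨r, hrU⟩, rfl⟩⟩, rfl⟩
    · rintro ⟨⟨_, ⟨⟨r', hr'⟩, rfl⟩⟩, h⟩
      rw [← h]
      exact (Ideal.toCotangent_eq_zero _ _).mpr hr'
  have hlen := Module.length_eq_add_of_exact (LinearMap.range qc).subtype Φ Subtype.val_injective hΦ hΦker
  haveI : IsScalarTower R K (CotangentSpace A) := IsScalarTower.of_algebraMap_smul fun r w => by
    rw [IsScalarTower.algebraMap_apply R A K, algebraMap_smul, algebraMap_smul]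
  have hmA : Module.length R (maximalIdeal A).Cotangent = Module.finrank K (CotangentSpace A) :=
    hlenK (CotangentSpace A)
  have hmR : Module.length R (maximalIdeal R).Cotangent = Module.finrank (ResidueField R) (CotangentSpace R) := by
    show Module.length R (CotangentSpace R) = _
    rw [Module.length_eq_of_surjective (S := R) (R := ResidueField R) residue_surjective, Module.length_eq_finrank]
  rw [hlenS, hmA, hmR] at hlen
  have hlen' : Module.finrank (ResidueField R) (CotangentSpace R) =
      Module.finrank K Sp + Module.finrank K (CotangentSpace A) := by exact_mod_cast hlen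
  exact (fun {a b c d e : ℕ} (h1 : b + e = a) (h2 : d = e + c) => show a + c = b + d by omega) hrn hlen'

end compare

/-- If `A` is formally smooth over `k` and the residue field is essentially of finite type,
`dim Ω_{A/k} ⊗ K = dim A + trdeg K`. -/
theorem finrank_kaehler_eq {k A : Type u} [Field k] [CommRing A] [IsLocalRing A] [IsNoetherianRing A]
    [Algebra k A] (hA : CAlgX.IsAdicFormallySmooth k A (maximalIdeal A))
    [Algebra.EssFiniteType k (ResidueField A)] :
    Module.Finite (ResidueField A) (ResidueField A ⊗[A] Ω[A⁄k]) ∧ ∃ t : ℕ,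
      Algebra.trdeg k (ResidueField A) = t ∧
      (Module.finrank (ResidueField A) (ResidueField A ⊗[A] Ω[A⁄k]) : WithBot ℕ∞) = ringKrullDim A + t := by
  classical
  have hregA : IsRegularLocalRing A := isRegularLocalRing_of_isAdicFormallySmooth hA
  obtain ⟨S, hS⟩ := IntermediateField.fg_top k (ResidueField A)
  obtain ⟨T, hT⟩ := IsNoetherian.noetherian (maximalIdeal A)
  choose a ha using fun i : Fin S.card => residue_surjective (R := A) (S.equivFin.symm i).1
  let σ := Fin S.card ⊕ Fin T.card
  let val : σ → A := Sum.elim a (fun i => (T.equivFin.symm i).1)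
  let P := MvPolynomial σ k
  let ψ0 : P →ₐ[k] A := MvPolynomial.aeval val
  let q : Ideal P := (maximalIdeal A).comap ψ0.toRingHom
  haveI : q.IsPrime := Ideal.IsPrime.comap _
  let R := Localization.AtPrime q
  let ψ : R →ₐ[k] A := IsLocalization.liftAlgHom (M := q.primeCompl) (f := ψ0) fun y =>
    notMem_maximalIdeal.mp y.2
  letI : Algebra P A := ψ0.toRingHom.toAlgebra
  letI : Algebra R A := ψ.toRingHom.toAlgebra
  haveI : IsScalarTower k R A := IsScalarTower.of_algebraMap_eq fun x => (ψ.commutes x).symm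
  haveI : IsScalarTower P R A := IsScalarTower.of_algebraMap_eq fun x => (IsLocalization.lift_eq _ x).symm
  haveI hregR : IsRegularLocalRing R := IsRegularRing.isRegularLocalRing_localization q
  haveI : IsLocalHom (algebraMap R A) := ⟨fun r hr => by
    obtain ⟨x, s, rfl⟩ := IsLocalization.exists_mk'_eq q.primeCompl r
    rw [IsLocalization.AtPrime.isUnit_mk'_iff R q]
    intro hx
    have h1 : algebraMap R A (IsLocalization.mk' R x s) * algebraMap R A (algebraMap P R s) = algebraMap P A x := by
      rw [← map_mul, IsLocalization.mk'_spec, ← IsScalarTower.algebraMap_apply P R A]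
    have hx' : algebraMap P A x ∈ maximalIdeal A := hx
    rw [← h1] at hx'
    exact hx' (hr.mul ((IsLocalization.map_units R s).map (algebraMap R A)))⟩
  let K := ResidueField A
  haveI : IsScalarTower P R K := IsScalarTower.of_algebraMap_eq fun x => by
    rw [IsScalarTower.algebraMap_apply P A K, IsScalarTower.algebraMap_apply P R A]
    rfl
  haveI : IsScalarTower k R K := IsScalarTower.of_algebraMap_eq fun x => by
    rw [IsScalarTower.algebraMap_apply k A K, IsScalarTower.algebraMap_apply k R A]
    rfl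
  have hX : ∀ i, algebraMap R A (algebraMap P R (MvPolynomial.X i)) = val i := fun i =>
    (IsScalarTower.algebraMap_apply P R A _).symm.trans (MvPolynomial.aeval_X val i)
  have hsurjK : Function.Surjective (algebraMap R K) := by
    let f := IsScalarTower.toAlgHom k R K
    have hinv : ∀ x ∈ f.range, x⁻¹ ∈ f.range := by
      rintro _ ⟨r, rfl⟩
      show (algebraMap R K r)⁻¹ ∈ f.range
      by_cases h0 : algebraMap R K r = 0
      · rw [h0, inv_zero]; exact zero_mem _
      · have hu : IsUnit r := isUnit_of_map_unit (algebraMap R A) r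
          (notMem_maximalIdeal.mp fun hm => h0 ((residue_eq_zero_iff _).mpr hm))
        obtain ⟨w, rfl⟩ := hu
        exact ⟨(w⁻¹ : Rˣ), map_units_inv (algebraMap R K) w⟩
    have hle : IntermediateField.adjoin k (S : Set K) ≤ f.range.toIntermediateField hinv :=
      IntermediateField.adjoin_le_iff.mpr fun y hy => by
        refine ⟨algebraMap P R (MvPolynomial.X (Sum.inl (S.equivFin ⟨y, hy⟩))), ?_⟩
        show residue A (algebraMap R A _) = y
        rw [hX]
        exact (ha _).trans (by rw [Equiv.symm_apply_apply])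
    intro x
    obtain ⟨r, hr⟩ := hle (hS.ge trivial : x ∈ IntermediateField.adjoin k (S : Set K))
    exact ⟨r, hr⟩
  have hsplit : ∀ a : A, ∃ r : R, a - algebraMap R A r ∈ maximalIdeal A := fun a => by
    obtain ⟨r, hr⟩ := hsurjK (residue A a)
    refine ⟨r, (residue_eq_zero_iff _).mp ?_⟩
    rw [map_sub, sub_eq_zero]
    exact hr.symm
  have hcot : ∀ m ∈ maximalIdeal A, ∃ r ∈ maximalIdeal R, m - algebraMap R A r ∈ maximalIdeal A ^ 2 := by
    intro m hm
    rw [← hT] at hm
    induction hm using Submodule.span_induction with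
    | mem y hy =>
      have hy' : algebraMap R A (algebraMap P R (MvPolynomial.X (Sum.inr (T.equivFin ⟨y, hy⟩)))) = y := by
        rw [hX]; simp [val]
      refine ⟨_, ?_, (sub_eq_zero.mpr hy'.symm).symm ▸ zero_mem _⟩
      by_contra hu
      have h2 := (notMem_maximalIdeal.mp hu).map (algebraMap R A)
      rw [hy'] at h2
      exact (notMem_maximalIdeal.mpr h2) (hT.le (Submodule.subset_span hy))
    | zero => exact ⟨0, zero_mem _, by simp⟩
    | add y z _ _ hy hz =>
      obtain ⟨r, hr, hr'⟩ := hy
      obtain ⟨r', hr2, hr2'⟩ := hz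
      exact ⟨r + r', add_mem hr hr2, by rw [map_add, add_sub_add_comm]; exact add_mem hr' hr2'⟩
    | smul c y _ hy =>
      obtain ⟨r, hr, hr'⟩ := hy
      obtain ⟨c', hc'⟩ := hsplit c
      refine ⟨c' * r, Ideal.mul_mem_left _ _ hr, ?_⟩
      rw [map_mul, smul_eq_mul, show c * y - algebraMap R A c' * algebraMap R A r =
        c * (y - algebraMap R A r) + (c - algebraMap R A c') * algebraMap R A r by ring]
      refine add_mem (Ideal.mul_mem_left _ _ hr') ?_
      rw [sq]
      exact Ideal.mul_mem_mul hc' (map_nonunit (algebraMap R A) r hr)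
  have hall : ∀ a : A, ∃ r : R, a - algebraMap R A r ∈ maximalIdeal A ^ 2 := fun a => by
    obtain ⟨r, hr⟩ := hsplit a
    obtain ⟨r', -, hr'⟩ := hcot _ hr
    exact ⟨r + r', by rwa [map_add, ← sub_sub]⟩
  have hbc : IsBaseChange K ((TensorProduct.mk R K Ω[R⁄k] 1).restrictScalars P ∘ₗ KaehlerDifferential.map k k P R) := by
    haveI : Algebra.FormallyEtale P R := Algebra.FormallyEtale.of_isLocalization q.primeCompl
    exact (KaehlerDifferential.isBaseChange_of_formallyEtale k P R).comp (TensorProduct.isBaseChange R Ω[R⁄k] K)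
  let bas : Module.Basis σ K (K ⊗[R] Ω[R⁄k]) :=
    (Algebra.TensorProduct.basis K (KaehlerDifferential.mvPolynomialBasis k σ)).map hbc.equiv
  haveI : Module.Finite K (K ⊗[R] Ω[R⁄k]) := Module.Finite.of_basis bas
  obtain ⟨hfin, hcmp⟩ := finrank_kaehler_compare hA hall
  rw [Module.finrank_eq_card_basis bas] at hcmp
  refine ⟨hfin, ?_⟩
  have hqker : ∀ x : P, algebraMap P K x = 0 ↔ x ∈ q := fun x => residue_eq_zero_iff _
  letI : Algebra (P ⧸ q) K := (Ideal.Quotient.lift q (algebraMap P K) (fun x hx => (hqker x).mpr hx)).toAlgebra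
  haveI : IsScalarTower k (P ⧸ q) K := IsScalarTower.of_algebraMap_eq (R := k) (S := P ⧸ q) (A := K) fun x => by
    rw [IsScalarTower.algebraMap_apply k A K, ← ψ0.commutes x]
    rfl
  haveI : FaithfulSMul (P ⧸ q) K := (faithfulSMul_iff_algebraMap_injective _ _).mpr (by
    rw [injective_iff_map_eq_zero]
    intro y hy
    obtain ⟨y, rfl⟩ := Ideal.Quotient.mk_surjective y
    exact Ideal.Quotient.eq_zero_iff_mem.mpr ((hqker y).mp hy))
  haveI : IsFractionRing (P ⧸ q) K := IsFractionRing.of_field _ _ fun z => by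
    obtain ⟨r, rfl⟩ := hsurjK z
    obtain ⟨x, s, rfl⟩ := IsLocalization.exists_mk'_eq q.primeCompl r
    refine ⟨Ideal.Quotient.mk q x, Ideal.Quotient.mk q s, ?_⟩
    show algebraMap R K _ = algebraMap P K x / algebraMap P K s
    rw [eq_div_iff (fun h => s.2 ((hqker s).mp h)), IsScalarTower.algebraMap_apply P R K, ← map_mul,
      IsLocalization.mk'_spec, ← IsScalarTower.algebraMap_apply]
  obtain ⟨t, ht, htdim, -⟩ := Groth.Variety2.Dim.exists_dim k (P ⧸ q)
  refine ⟨t, ?_, ?_⟩
  · rw [← ht]
    exact ((FractionRing.algEquiv (P ⧸ q) K).restrictScalars k).trdeg_eq.symm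
  · have hh := height_add_ringKrullDim_quotient k σ q
    rw [htdim] at hh
    have eR := (IsRegularLocalRing.iff_finrank_cotangentSpace R).mp hregR
    have eA := (IsRegularLocalRing.iff_finrank_cotangentSpace A).mp hregA
    rw [IsLocalization.AtPrime.ringKrullDim_eq_height q R] at eR
    rw [← eR] at hh
    rw [← eA]
    have hh' : Module.finrank (ResidueField R) (CotangentSpace R) + t = Nat.card σ := by exact_mod_cast hh
    rw [Nat.card_eq_fintype_card] at hh'
    exact_mod_cast (fun {n b c d : ℕ} (h1 : n + c = b + d) (h2 : d + t = n) => show b = c + t by omega) hcmp hh'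

end Groth.Ega41Adic
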