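import Groth.Agent.Ega41Adic.Basic
import Groth.Agent.SGA7.PowerSeries
import Mathlib.RingTheory.MvPowerSeries.Trunc

/-! Mapping property of power series into rings where the images of the variables are nilpotent. -/

universe u v w

namespace Groth.Ega41Adic

open MvPowerSeries Groth.SGA7.PS

variable {σ : Type v} [Fintype σ] {A : Type u} {E : Type w} [CommRing A] [CommRing E] [Algebra A E]

omit [Fintype σ] in
lemma varIdeal_eq_ker [Fintype σ] : varIdeal σ A = RingHom.ker (constantCoeff : MvPowerSeries σ A →+* A) :=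
  Ideal.ext fun g => mem_varIdeal_iff g

/-- Existence of the evaluation at nilpotent elements. -/
theorem exists_algHom_powerSeries (z : σ → E) (hz : ∀ i, IsNilpotent (z i)) :
    ∃ g : MvPowerSeries σ A →ₐ[A] E, (∀ i, g (X i) = z i) ∧
      ∃ m : ℕ, ∀ x ∈ varIdeal σ A ^ m, g x = 0 := by
  classical
  choose e he using hz
  let N : ℕ := (Finset.univ.sum e) + 1
  let n : σ →₀ ℕ := Finsupp.equivFunOnFinite.symm fun _ => N
  have hzN : ∀ i, z i ^ N = 0 := fun i => pow_eq_zero_of_le
    ((Finset.single_le_sum (fun j _ => Nat.zero_le (e j)) (Finset.mem_univ i)).trans (Nat.le_succ _)) (he i)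
  have hvanish : ∀ P : MvPolynomial σ A, (∀ d, d ≤ n → MvPolynomial.coeff d P = 0) →
      MvPolynomial.aeval z P = 0 := by
    intro P hP
    rw [MvPolynomial.as_sum P, map_sum]
    refine Finset.sum_eq_zero fun d hd => ?_
    obtain ⟨i, hi⟩ : ∃ i, ¬ d i ≤ N := by
      by_contra hcon
      push Not at hcon
      exact MvPolynomial.mem_support_iff.mp hd (hP d fun i => hcon i)
    rw [MvPolynomial.aeval_monomial,
      Finsupp.prod_fintype _ _ (fun _ => pow_zero _),
      Finset.prod_eq_zero (Finset.mem_univ i) (show z i ^ d i = 0 from pow_eq_zero_of_le (le_of_lt (not_le.mp hi)) (hzN i)), mul_zero]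
  let g : MvPowerSeries σ A →ₐ[A] E :=
    { toFun := fun f => MvPolynomial.aeval z (trunc' A n f)
      map_one' := by rw [trunc'_one, map_one]
      map_mul' := fun f g => by
        rw [← map_mul, ← sub_eq_zero, ← map_sub]
        refine hvanish _ fun d hd => ?_
        rw [MvPolynomial.coeff_sub, coeff_trunc', if_pos hd,
          coeff_mul_eq_coeff_trunc'_mul_trunc' n f g hd]
        exact sub_self _
      map_zero' := by rw [map_zero, map_zero]
      map_add' := fun f g => by rw [map_add, map_add]
      commutes' := fun a => by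
        show MvPolynomial.aeval z (trunc' A n (algebraMap A (MvPowerSeries σ A) a)) = _
        rw [show algebraMap A (MvPowerSeries σ A) a = C a from rfl, trunc'_C, MvPolynomial.aeval_C] }
  have hgX : ∀ i, g (X i) = z i := fun i => by
    show MvPolynomial.aeval z (trunc' A n (X i)) = z i
    have : trunc' A n (X i) = MvPolynomial.X i := by
      ext d
      rw [coeff_trunc', coeff_X, MvPolynomial.coeff_X']
      by_cases hd : d = Finsupp.single i 1
      · subst hd
        have hle : Finsupp.single i 1 ≤ n := Finsupp.single_le_iff.mpr (Nat.succ_le_succ (Nat.zero_le _))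
        simp [hle]
      · simp [hd, Ne.symm hd]
    rw [this, MvPolynomial.aeval_X]
  refine ⟨g, hgX, ?_⟩
  have hle : varIdeal σ A ≤ (Ideal.span (Set.range z)).comap g := by
    refine Ideal.span_le.mpr ?_
    rintro _ ⟨i, rfl⟩
    rw [SetLike.mem_coe, Ideal.mem_comap, hgX]
    exact Ideal.subset_span ⟨i, rfl⟩
  obtain ⟨m, hm⟩ : IsNilpotent (Ideal.span (Set.range z)) :=
    (Ideal.FG.isNilpotent_iff_le_nilradical (Submodule.fg_span (Set.finite_range z))).mpr
      (Ideal.span_le.mpr (by rintro _ ⟨i, rfl⟩; exact mem_nilradical.mpr ⟨N, hzN i⟩))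
  refine ⟨m, fun x hx => ?_⟩
  have := (Ideal.pow_right_mono hle m).trans (Ideal.le_comap_pow g m) hx
  rw [Ideal.mem_comap, hm] at this
  simpa using this

/-- Continuous maps out of power series are determined by the variables. -/
theorem algHom_powerSeries_ext {f g : MvPowerSeries σ A →ₐ[A] E} {m : ℕ}
    (hf : ∀ x ∈ varIdeal σ A ^ m, f x = 0) (hg : ∀ x ∈ varIdeal σ A ^ m, g x = 0)
    (h : ∀ i, f (X i) = g (X i)) : f = g := by
  classical
  refine AlgHom.ext fun x => ?_
  let n : σ →₀ ℕ := Finsupp.equivFunOnFinite.symm fun _ => m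
  let c : MvPolynomial σ A →ₐ[A] MvPowerSeries σ A := MvPolynomial.coeToMvPowerSeries.algHom A
  have hpoly : f.comp c = g.comp c := MvPolynomial.algHom_ext fun i => by
    simp [c, h]
  have hmem : x - c (trunc' A n x) ∈ varIdeal σ A ^ m := by
    refine mem_varIdeal_pow m _ fun d hd => ?_
    have hdn : d ≤ n := fun i => by
      show d i ≤ m
      exact ((Finsupp.le_degree i d).trans hd.le)
    simp [c, coeff_trunc', hdn]
  have h1 := AlgHom.congr_fun hpoly (trunc' A n x)
  rw [← sub_add_cancel x (c (trunc' A n x)), map_add, map_add, hf _ hmem, hg _ hmem]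
  simp only [AlgHom.comp_apply] at h1
  rw [h1]

end Groth.Ega41Adic
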