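import Groth.Agent.Ega41Adic.Basic
import Mathlib.RingTheory.AdicCompletion.RingHom

/-! Lifting into complete rings. -/

universe u

namespace Groth.Ega41Adic

open EGA41 Ideal.Quotient

variable {A B C : Type u} [CommRing A] [CommRing B] [CommRing C] [Algebra A B] [Algebra A C]
  {𝔞 : Ideal A} {𝔟 : Ideal B} {𝔠 : Ideal C} {J : Ideal C}

/-- `v` lifts `u` modulo `J + 𝔠^n`, continuously. -/
def GoodLift (u : B →ₐ[A] C ⧸ J) (𝔟 : Ideal B) (n : ℕ) (v : B →ₐ[A] C ⧸ 𝔠 ^ n) : Prop :=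
  (∃ k : ℕ, ∀ x ∈ 𝔟 ^ k, v x = 0) ∧
    ∀ b, factor (le_sup_right : 𝔠 ^ n ≤ J ⊔ 𝔠 ^ n) (v b) = factor (le_sup_left : J ≤ J ⊔ 𝔠 ^ n) (u b)

theorem exists_goodLift_succ (hB : IsFormallySmoothAdic A 𝔞 B 𝔟)
    (hAC : ∃ k : ℕ, (𝔞 ^ k).map (algebraMap A C) ≤ 𝔠) (hJ : ∃ t : ℕ, J ^ t ≤ 𝔠)
    (u : B →ₐ[A] C ⧸ J) (hu : ∃ k : ℕ, (𝔟 ^ k).map u.toRingHom ≤ 𝔠.map (Ideal.Quotient.mk J))
    (n : ℕ) (v : B →ₐ[A] C ⧸ 𝔠 ^ n) (hv : GoodLift u 𝔟 n v) :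
    ∃ w : B →ₐ[A] C ⧸ 𝔠 ^ (n + 1), GoodLift u 𝔟 (n + 1) w ∧
      (Ideal.Quotient.factorₐ A (Ideal.pow_le_pow_right n.le_succ)).comp w = v := by
  obtain ⟨k₀, hk₀⟩ := hu
  obtain ⟨⟨k, hk⟩, hcomp⟩ := hv
  have hle : 𝔠 ^ (n + 1) ≤ 𝔠 ^ n := Ideal.pow_le_pow_right n.le_succ
  set I₁ := J ⊔ 𝔠 ^ (n + 1) with hI₁
  have hsup : J ⊔ 𝔠 ^ n = I₁ ⊔ 𝔠 ^ n := by rw [hI₁, sup_assoc, sup_eq_right.mpr hle]
  let f₁ : B →ₐ[A] C ⧸ I₁ := (Ideal.Quotient.factorₐ A le_sup_left).comp u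
  obtain ⟨g, hg₁, hg₂⟩ := exists_algHom_quotient_inf I₁ (𝔠 ^ n) f₁ v fun b => by
    have h := congrArg (factor hsup.le) (hcomp b)
    obtain ⟨cu, hcu⟩ := Ideal.Quotient.mk_surjective (u b)
    obtain ⟨cv, hcv⟩ := Ideal.Quotient.mk_surjective (v b)
    simp only [← hcu, ← hcv, Ideal.Quotient.factor_mk] at h
    simp only [f₁, AlgHom.comp_apply, ← hcu, ← hcv, Ideal.Quotient.factorₐ_apply_mk,
      Ideal.Quotient.factor_mk, h]
  have hge : 𝔠 ^ (n + 1) ≤ I₁ ⊓ 𝔠 ^ n := le_inf le_sup_right hle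
  set K := (I₁ ⊓ 𝔠 ^ n).map (Ideal.Quotient.mk (𝔠 ^ (n + 1))) with hKdef
  have hK : IsNilpotent K := by
    obtain ⟨t, ht⟩ := hJ
    have h1 : (J ⊔ 𝔠 ^ (n + 1)) ^ (t + 1) ≤ 𝔠 := by
      refine Ideal.sup_pow_add_le_pow_sup_pow.trans (sup_le ?_ ?_)
      · exact ht
      · rw [pow_one]; exact Ideal.pow_le_self (Nat.succ_ne_zero n)
    refine ⟨(t + 1) * (n + 1), ?_⟩
    rw [hKdef, ← Ideal.map_pow, Submodule.zero_eq_bot, eq_bot_iff]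
    refine (Ideal.map_mono ?_).trans (Ideal.map_quotient_self _).le
    rw [pow_mul]
    exact Ideal.pow_right_mono ((Ideal.pow_right_mono inf_le_left _).trans h1) _
  let e : ((C ⧸ 𝔠 ^ (n + 1)) ⧸ K) ≃ₐ[A] C ⧸ (I₁ ⊓ 𝔠 ^ n) := DoubleQuot.quotQuotEquivQuotOfLEₐ A hge
  obtain ⟨kg, hkg⟩ : ∃ k, ∀ x ∈ 𝔟 ^ k, g x = 0 := by
    refine ⟨max (k₀ * (n + 1)) k, fun x hx => ?_⟩
    obtain ⟨c, hc⟩ := Ideal.Quotient.mk_surjective (g x)
    have h2 : Ideal.Quotient.mk (𝔠 ^ n) c = 0 := by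
      rw [← Ideal.Quotient.factor_mk (inf_le_right : I₁ ⊓ 𝔠 ^ n ≤ _), hc, hg₂]
      exact hk x (Ideal.pow_le_pow_right (le_max_right _ _) hx)
    have hux : u x ∈ (𝔠.map (Ideal.Quotient.mk J)) ^ (n + 1) := by
      refine Ideal.pow_right_mono hk₀ _ ?_
      rw [← Ideal.map_pow, ← pow_mul]
      exact Ideal.mem_map_of_mem u.toRingHom (Ideal.pow_le_pow_right (le_max_left _ _) hx)
    rw [← Ideal.map_pow, Ideal.mem_map_iff_of_surjective _ Ideal.Quotient.mk_surjective] at hux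
    obtain ⟨d, hd, hdx⟩ := hux
    have h1 : Ideal.Quotient.mk I₁ c = 0 := by
      rw [← Ideal.Quotient.factor_mk (inf_le_left : I₁ ⊓ 𝔠 ^ n ≤ _), hc, hg₁]
      simp only [f₁, AlgHom.comp_apply, ← hdx, Ideal.Quotient.factorₐ_apply_mk]
      exact Ideal.Quotient.eq_zero_iff_mem.mpr ((le_sup_right : _ ≤ I₁) hd)
    rw [← hc]
    exact Ideal.Quotient.eq_zero_iff_mem.mpr
      ⟨Ideal.Quotient.eq_zero_iff_mem.mp h1, Ideal.Quotient.eq_zero_iff_mem.mp h2⟩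
  have hA' : ∃ j : ℕ, (𝔞 ^ j).map (algebraMap A (C ⧸ 𝔠 ^ (n + 1))) = ⊥ := by
    obtain ⟨j, hj⟩ := hAC
    refine ⟨j * (n + 1), ?_⟩
    rw [IsScalarTower.algebraMap_eq A C (C ⧸ 𝔠 ^ (n + 1)), ← Ideal.map_map, pow_mul, Ideal.map_pow,
      eq_bot_iff, Ideal.Quotient.algebraMap_eq]
    exact (Ideal.map_mono (Ideal.pow_right_mono hj _)).trans (Ideal.map_quotient_self _).le
  obtain ⟨w, hw⟩ := hB _ K hK hA' (e.symm.toAlgHom.comp g) ⟨kg, fun x hx => by simp [hkg x hx]⟩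
  have hwg : ∀ b, factor hge (w b) = g b := fun b => by
    obtain ⟨c, hc⟩ := Ideal.Quotient.mk_surjective (w b)
    have h := congrArg e (AlgHom.congr_fun hw b)
    simp only [AlgHom.comp_apply, Ideal.Quotient.mkₐ_eq_mk] at h
    rw [← hc] at h ⊢
    exact h.trans (e.apply_symm_apply _)
  refine ⟨w, ⟨continuous_of_quotient hK w 𝔟 ⟨kg, fun x hx => ?_⟩, fun b => ?_⟩, AlgHom.ext fun b => ?_⟩
  · have h := AlgHom.congr_fun hw x
    simp only [AlgHom.comp_apply, Ideal.Quotient.mkₐ_eq_mk] at h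
    rw [h, hkg x hx, map_zero]
  · obtain ⟨c, hc⟩ := Ideal.Quotient.mk_surjective (w b)
    obtain ⟨cu, hcu⟩ := Ideal.Quotient.mk_surjective (u b)
    have h := congrArg (factor (inf_le_left : I₁ ⊓ 𝔠 ^ n ≤ I₁)) (hwg b)
    rw [hg₁] at h
    simp only [f₁, AlgHom.comp_apply, ← hc, ← hcu, Ideal.Quotient.factor_mk,
      Ideal.Quotient.factorₐ_apply_mk] at h
    simp only [← hc, ← hcu, Ideal.Quotient.factor_mk]
    exact h
  · obtain ⟨c, hc⟩ := Ideal.Quotient.mk_surjective (w b)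
    have h := congrArg (factor (inf_le_right : I₁ ⊓ 𝔠 ^ n ≤ 𝔠 ^ n)) (hwg b)
    rw [hg₂] at h
    simp only [← hc, Ideal.Quotient.factor_mk] at h
    simp only [AlgHom.comp_apply, ← hc, Ideal.Quotient.factorₐ_apply_mk]
    exact h

theorem exists_lift_complete (hB : IsFormallySmoothAdic A 𝔞 B 𝔟) [IsAdicComplete 𝔠 C]
    (hAC : ∃ k : ℕ, (𝔞 ^ k).map (algebraMap A C) ≤ 𝔠) (hJ : ∃ t : ℕ, J ^ t ≤ 𝔠)
    [IsHausdorff (𝔠.map (Ideal.Quotient.mk J)) (C ⧸ J)]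
    (u : B →ₐ[A] C ⧸ J) (hu : ∃ k : ℕ, (𝔟 ^ k).map u.toRingHom ≤ 𝔠.map (Ideal.Quotient.mk J)) :
    ∃ v : B →ₐ[A] C, (∃ k : ℕ, (𝔟 ^ k).map v.toRingHom ≤ 𝔠) ∧ (Ideal.Quotient.mkₐ A J).comp v = u := by
  classical
  have hsub : Subsingleton (C ⧸ 𝔠 ^ 0) := by
    rw [pow_zero, Ideal.one_eq_top]; exact Ideal.Quotient.subsingleton_iff.mpr rfl
  have hsub' : Subsingleton (C ⧸ (J ⊔ 𝔠 ^ 0)) := Ideal.Quotient.subsingleton_iff.mpr (by simp)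
  let v₀ : B →ₐ[A] C ⧸ 𝔠 ^ 0 :=
    { toFun := fun _ => 0
      map_one' := Subsingleton.elim _ _
      map_mul' := fun _ _ => Subsingleton.elim _ _
      map_zero' := rfl
      map_add' := fun _ _ => Subsingleton.elim _ _
      commutes' := fun _ => Subsingleton.elim _ _ }
  have h0 : GoodLift u 𝔟 0 v₀ := ⟨⟨0, fun x _ => rfl⟩, fun b => Subsingleton.elim _ _⟩
  choose next hnext hcompat using exists_goodLift_succ hB hAC hJ u hu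
  let vs : (n : ℕ) → { v : B →ₐ[A] C ⧸ 𝔠 ^ n // GoodLift u 𝔟 n v } := fun n =>
    Nat.rec ⟨v₀, h0⟩ (fun n v => ⟨next n v.1 v.2, hnext n v.1 v.2⟩) n
  have hstep : ∀ n, (Ideal.Quotient.factorₐ A (Ideal.pow_le_pow_right n.le_succ)).comp (vs (n + 1)).1 =
      (vs n).1 := fun n => hcompat n _ _
  have hf : ∀ {m n : ℕ} (hle : m ≤ n),
      (Ideal.Quotient.factorₐ A (Ideal.pow_le_pow_right hle)).comp (vs n).1 = (vs m).1 := by
    intro m n hle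
    induction n, hle using Nat.le_induction with
    | base => simp
    | succ n hmn ih =>
        rw [← Ideal.Quotient.factorₐ_comp _
          (Ideal.pow_le_pow_right n.le_succ) (Ideal.pow_le_pow_right hmn), AlgHom.comp_assoc, hstep, ih]
  let v := IsAdicComplete.liftAlgHom 𝔠 (fun n => (vs n).1) hf
  have hv : ∀ n b, Ideal.Quotient.mk (𝔠 ^ n) (v b) = (vs n).1 b := fun n b =>
    IsAdicComplete.mk_liftAlgHom 𝔠 _ hf n b
  refine ⟨v, ?_, AlgHom.ext fun b => ?_⟩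
  · obtain ⟨k, hk⟩ := (vs 1).2.1
    refine ⟨k, Ideal.map_le_iff_le_comap.mpr fun x hx => ?_⟩
    rw [Ideal.mem_comap, ← pow_one 𝔠, ← Ideal.Quotient.eq_zero_iff_mem]
    exact (hv 1 x).trans (hk x hx)
  · show Ideal.Quotient.mk J (v b) = u b
    refine sub_eq_zero.mp (IsHausdorff.haus (I := 𝔠.map (Ideal.Quotient.mk J)) inferInstance _ fun n => ?_)
    obtain ⟨cu, hcu⟩ := Ideal.Quotient.mk_surjective (u b)
    have h := (vs n).2.2 b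
    rw [← hv n b, ← hcu, Ideal.Quotient.factor_mk, Ideal.Quotient.factor_mk, Ideal.Quotient.eq] at h
    rw [SModEq.sub_mem, sub_zero, ← hcu, ← map_sub, smul_eq_mul, Ideal.mul_top, ← Ideal.map_pow,
      Ideal.mem_map_iff_of_surjective _ Ideal.Quotient.mk_surjective]
    obtain ⟨x, hx, y, hy, hxy⟩ := Submodule.mem_sup.mp h
    refine ⟨y, hy, Ideal.Quotient.eq.mpr ?_⟩
    rw [show y - (v b - cu) = -x from by linear_combination hxy]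
    exact J.neg_mem hx

end Groth.Ega41Adic
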