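import Groth.Agent.Ega41Adic.Basic
import Mathlib.Algebra.TrivSqZeroExt.Basic
import Mathlib.RingTheory.Kaehler.Basic
import Mathlib.Algebra.Module.Projective
import Mathlib.RingTheory.TensorProduct.IsBaseChangePi

/-! Differentials of formally smooth adic algebras are projective modulo open ideals. -/

universe u

namespace Groth.Ega41Adic

open TensorProduct

variable {A B : Type u} [CommRing A] [CommRing B] [Algebra A B] {𝔞 : Ideal A} {𝔟 : Ideal B}

/-- Derivations into modules killed by an open ideal lift along surjections. -/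
theorem exists_linearMap_comp_eq_of_isFormallySmoothAdic (h : EGA41.IsFormallySmoothAdic A 𝔞 B 𝔟)
    (hAB : ∃ k : ℕ, (𝔞 ^ k).map (algebraMap A B) ≤ 𝔟) (𝔄 : Ideal B) (h𝔄 : ∃ n : ℕ, 𝔟 ^ n ≤ 𝔄)
    {M N : Type u} [AddCommGroup M] [AddCommGroup N] [Module (B ⧸ 𝔄) M] [Module (B ⧸ 𝔄) N]
    (g : M →ₗ[B ⧸ 𝔄] N) (hg : Function.Surjective g) (f : (B ⧸ 𝔄) ⊗[B] Ω[B⁄A] →ₗ[B ⧸ 𝔄] N) :
    ∃ h : (B ⧸ 𝔄) ⊗[B] Ω[B⁄A] →ₗ[B ⧸ 𝔄] M, g ∘ₗ h = f := by
  classical
  letI : Module (B ⧸ 𝔄)ᵐᵒᵖ M := Module.compHom M ((RingHom.id (B ⧸ 𝔄)).fromOpposite mul_comm)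
  haveI : IsCentralScalar (B ⧸ 𝔄) M := ⟨fun r m => rfl⟩
  letI : Module (B ⧸ 𝔄)ᵐᵒᵖ N := Module.compHom N ((RingHom.id (B ⧸ 𝔄)).fromOpposite mul_comm)
  haveI : IsCentralScalar (B ⧸ 𝔄) N := ⟨fun r m => rfl⟩
  letI : Module B M := Module.compHom M (algebraMap B (B ⧸ 𝔄))
  haveI : IsScalarTower B (B ⧸ 𝔄) M := IsScalarTower.of_compHom B (B ⧸ 𝔄) M
  letI : Module B N := Module.compHom N (algebraMap B (B ⧸ 𝔄))
  haveI : IsScalarTower B (B ⧸ 𝔄) N := IsScalarTower.of_compHom B (B ⧸ 𝔄) N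
  letI : Module A M := Module.compHom M (algebraMap A (B ⧸ 𝔄))
  haveI : IsScalarTower A (B ⧸ 𝔄) M := IsScalarTower.of_compHom A (B ⧸ 𝔄) M
  letI : Module A N := Module.compHom N (algebraMap A (B ⧸ 𝔄))
  haveI : IsScalarTower A (B ⧸ 𝔄) N := IsScalarTower.of_compHom A (B ⧸ 𝔄) N
  haveI : IsScalarTower A B M := IsScalarTower.of_algebraMap_smul fun a m => by
    rw [← algebraMap_smul (B ⧸ 𝔄) a m, ← algebraMap_smul (B ⧸ 𝔄) (algebraMap A B a) m]
    rfl
  haveI : IsScalarTower A B N := IsScalarTower.of_algebraMap_smul fun a m => by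
    rw [← algebraMap_smul (B ⧸ 𝔄) a m, ← algebraMap_smul (B ⧸ 𝔄) (algebraMap A B a) m]
    rfl
  haveI : IsScalarTower A (B ⧸ 𝔄)ᵐᵒᵖ M := ⟨fun a r m => by
    obtain ⟨r, rfl⟩ := MulOpposite.op_surjective r
    exact smul_assoc a r m⟩
  haveI : IsScalarTower A (B ⧸ 𝔄)ᵐᵒᵖ N := ⟨fun a r m => by
    obtain ⟨r, rfl⟩ := MulOpposite.op_surjective r
    exact smul_assoc a r m⟩
  obtain ⟨n, hn⟩ := h𝔄
  obtain ⟨k, hk⟩ := hAB
  let π : (TrivSqZeroExt (B ⧸ 𝔄) M) →ₐ[A] TrivSqZeroExt (B ⧸ 𝔄) N := (TrivSqZeroExt.map g).restrictScalars A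
  have hπ : Function.Surjective π := fun y => by
    obtain ⟨m, hm⟩ := hg y.snd
    exact ⟨TrivSqZeroExt.inl y.fst + TrivSqZeroExt.inr m, by ext <;> simp [π, hm]⟩
  let J : Ideal (TrivSqZeroExt (B ⧸ 𝔄) M) := RingHom.ker π.toRingHom
  have hJfst : ∀ x ∈ J, x.fst = 0 := fun x hx => by
    have := congrArg TrivSqZeroExt.fst (show π x = 0 from hx)
    simpa [π] using this
  have hJ : IsNilpotent J := ⟨2, by
    rw [Submodule.zero_eq_bot, eq_bot_iff, sq, Ideal.mul_le]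
    intro a ha b hb
    rw [Ideal.mem_bot]
    ext <;> simp [hJfst a ha, hJfst b hb]⟩
  have hA : ∃ j : ℕ, (𝔞 ^ j).map (algebraMap A (TrivSqZeroExt (B ⧸ 𝔄) M)) = ⊥ := ⟨k * n, by
    rw [eq_bot_iff, Ideal.map_le_iff_le_comap]
    intro a ha
    have h1 : algebraMap A B a ∈ 𝔄 := hn (Ideal.pow_right_mono hk n (by
      rw [← Ideal.map_pow, ← pow_mul]; exact Ideal.mem_map_of_mem _ ha))
    rw [Ideal.mem_comap, Ideal.mem_bot, TrivSqZeroExt.algebraMap_eq_inl',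
      show algebraMap A (B ⧸ 𝔄) a = 0 from Ideal.Quotient.eq_zero_iff_mem.mpr h1, TrivSqZeroExt.inl_zero]⟩
  let fB : Ω[B⁄A] →ₗ[B] N := f.restrictScalars B ∘ₗ TensorProduct.mk B (B ⧸ 𝔄) Ω[B⁄A] 1
  let d : Derivation A B N := fB.compDer (KaehlerDifferential.D A B)
  let u₀ : B →ₐ[A] TrivSqZeroExt (B ⧸ 𝔄) N :=
    { toFun := fun b => TrivSqZeroExt.inl (Ideal.Quotient.mk 𝔄 b) + TrivSqZeroExt.inr (d b)
      map_one' := by ext <;> simp
      map_mul' := fun a b => by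
        ext
        · simp
        · simp only [TrivSqZeroExt.snd_add, TrivSqZeroExt.snd_inl, TrivSqZeroExt.snd_inr, TrivSqZeroExt.snd_mul,
            TrivSqZeroExt.fst_add, TrivSqZeroExt.fst_inl, TrivSqZeroExt.fst_inr, zero_add, add_zero,
            op_smul_eq_smul, Derivation.leibniz]
          rfl
      map_zero' := by ext <;> simp
      map_add' := fun a b => by ext <;> simp
      commutes' := fun a => by ext <;> simp [TrivSqZeroExt.algebraMap_eq_inl'] }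
  let e : ((TrivSqZeroExt (B ⧸ 𝔄) M) ⧸ J) ≃ₐ[A] TrivSqZeroExt (B ⧸ 𝔄) N := Ideal.quotientKerAlgEquivOfSurjective hπ
  obtain ⟨v, hv⟩ := h (TrivSqZeroExt (B ⧸ 𝔄) M) J hJ hA (e.symm.toAlgHom.comp u₀) ⟨n * 2, fun x hx => by
    show e.symm (u₀ x) = 0
    rw [show u₀ x = 0 from ?_, map_zero]
    rw [pow_mul] at hx
    refine Submodule.mul_induction_on (show x ∈ 𝔟 ^ n * 𝔟 ^ n by rwa [← sq]) ?_ ?_
    · intro a ha b hb
      have ha' : Ideal.Quotient.mk 𝔄 a = 0 := Ideal.Quotient.eq_zero_iff_mem.mpr (hn ha)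
      have hb' : Ideal.Quotient.mk 𝔄 b = 0 := Ideal.Quotient.eq_zero_iff_mem.mpr (hn hb)
      rw [map_mul]
      ext <;> simp [u₀, ha', hb']
    · intro a b ha hb
      rw [map_add, ha, hb, add_zero]⟩
  have hv' : ∀ b, π (v b) = u₀ b := fun b => by
    have h2 := congrArg e (AlgHom.congr_fun hv b)
    exact h2.trans (e.apply_symm_apply _)
  have hfst : ∀ b, (v b).fst = Ideal.Quotient.mk 𝔄 b := fun b => by
    simpa [π, u₀] using congrArg TrivSqZeroExt.fst (hv' b)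
  have hsnd : ∀ b, g (v b).snd = d b := fun b => by
    simpa [π, u₀] using congrArg TrivSqZeroExt.snd (hv' b)
  let d' : Derivation A B M := Derivation.mk'
    { toFun := fun b => (v b).snd
      map_add' := fun a b => by simp
      map_smul' := fun a b => by simp }
    (fun a b => by
      show (v (a * b)).snd = a • (v b).snd + b • (v a).snd
      rw [map_mul, TrivSqZeroExt.snd_mul, op_smul_eq_smul, hfst, hfst]
      rfl)
  refine ⟨d'.liftKaehlerDifferential.liftBaseChange (B ⧸ 𝔄), TensorProduct.AlgebraTensorModule.ext fun r ω => ?_⟩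
  induction (show ω ∈ Submodule.span B (Set.range (KaehlerDifferential.D A B)) by
      rw [KaehlerDifferential.span_range_derivation]; trivial) using Submodule.span_induction with
  | mem x hx =>
    obtain ⟨b, rfl⟩ := hx
    rw [LinearMap.comp_apply, LinearMap.liftBaseChange_tmul, Derivation.liftKaehlerDifferential_comp_D, map_smul,
      show d' b = (v b).snd from rfl, hsnd,
      show r ⊗ₜ[B] (KaehlerDifferential.D A B b) = r • ((1 : B ⧸ 𝔄) ⊗ₜ[B] KaehlerDifferential.D A B b) by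
        rw [TensorProduct.smul_tmul', smul_eq_mul, mul_one], map_smul]
    rfl
  | zero => simp
  | add x y _ _ hx hy => rw [tmul_add, map_add, map_add, hx, hy]
  | smul c x _ hx => rw [tmul_smul, LinearMap.map_smul_of_tower, LinearMap.map_smul_of_tower, hx]

theorem projective_kaehler_quotient_of_isFormallySmoothAdic (h : EGA41.IsFormallySmoothAdic A 𝔞 B 𝔟)
    (hAB : ∃ k : ℕ, (𝔞 ^ k).map (algebraMap A B) ≤ 𝔟) (𝔄 : Ideal B) (h𝔄 : ∃ n : ℕ, 𝔟 ^ n ≤ 𝔄) :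
    Module.Projective (B ⧸ 𝔄) ((B ⧸ 𝔄) ⊗[B] Ω[B⁄A]) :=
  Module.Projective.of_lifting_property'' fun f hf => by
    obtain ⟨w, hw⟩ := exists_linearMap_comp_eq_of_isFormallySmoothAdic h hAB 𝔄 h𝔄 f hf LinearMap.id
    exact ⟨w, hw⟩

end Groth.Ega41Adic
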