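import Groth.Prelude.Def_EGA41
import Groth.Prelude.Def_CAlgX
import Mathlib.RingTheory.Ideal.Quotient.Nilpotent
import Mathlib.RingTheory.Ideal.Quotient.Operations
import Mathlib.RingTheory.TensorProduct.Maps

/-! Formal smoothness for adic topologies: square-zero criterion, composition, base change, descent. -/

universe u v w

namespace Groth.Ega41Adic

open EGA41

section Quot

variable {A : Type v} {B : Type w} {C : Type u} [CommRing A] [CommRing B] [CommRing C] [Algebra A B] [Algebra A C]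

lemma mk_inf_ext {I₁ I₂ : Ideal C} {x y : C} (h₁ : Ideal.Quotient.mk I₁ x = Ideal.Quotient.mk I₁ y)
    (h₂ : Ideal.Quotient.mk I₂ x = Ideal.Quotient.mk I₂ y) :
    Ideal.Quotient.mk (I₁ ⊓ I₂) x = Ideal.Quotient.mk (I₁ ⊓ I₂) y :=
  Ideal.Quotient.eq.mpr ⟨Ideal.Quotient.eq.mp h₁, Ideal.Quotient.eq.mp h₂⟩

/-- Two maps to `C/I₁` and `C/I₂` which agree in `C/(I₁ + I₂)` glue to `C/(I₁ ∩ I₂)`. -/
theorem exists_algHom_quotient_inf (I₁ I₂ : Ideal C) (f₁ : B →ₐ[A] C ⧸ I₁) (f₂ : B →ₐ[A] C ⧸ I₂)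
    (h : ∀ b, Ideal.Quotient.factor (le_sup_left : I₁ ≤ I₁ ⊔ I₂) (f₁ b) =
      Ideal.Quotient.factor (le_sup_right : I₂ ≤ I₁ ⊔ I₂) (f₂ b)) :
    ∃ f : B →ₐ[A] C ⧸ (I₁ ⊓ I₂),
      (∀ b, Ideal.Quotient.factor (inf_le_left : I₁ ⊓ I₂ ≤ I₁) (f b) = f₁ b) ∧
      (∀ b, Ideal.Quotient.factor (inf_le_right : I₁ ⊓ I₂ ≤ I₂) (f b) = f₂ b) := by
  have hc : ∀ b, ∃ c, Ideal.Quotient.mk I₁ c = f₁ b ∧ Ideal.Quotient.mk I₂ c = f₂ b := by
    intro b
    obtain ⟨c₁, h₁⟩ := Ideal.Quotient.mk_surjective (f₁ b)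
    obtain ⟨c₂, h₂⟩ := Ideal.Quotient.mk_surjective (f₂ b)
    have hb := h b
    rw [← h₁, ← h₂, Ideal.Quotient.factor_mk, Ideal.Quotient.factor_mk, Ideal.Quotient.eq,
      Submodule.mem_sup] at hb
    obtain ⟨x, hx, y, hy, hxy⟩ := hb
    refine ⟨c₁ - x, ?_, ?_⟩
    · rw [map_sub, h₁, Ideal.Quotient.eq_zero_iff_mem.mpr hx, sub_zero]
    · rw [show c₁ - x = c₂ + y from by linear_combination -hxy, map_add, h₂,
        Ideal.Quotient.eq_zero_iff_mem.mpr hy, add_zero]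
  choose c hc₁ hc₂ using hc
  refine ⟨
    { toFun := fun b => Ideal.Quotient.mk _ (c b)
      map_one' := by rw [← map_one (Ideal.Quotient.mk (I₁ ⊓ I₂))]; exact mk_inf_ext (by simp [hc₁]) (by simp [hc₂])
      map_mul' := fun a b => by rw [← map_mul]; exact mk_inf_ext (by simp [hc₁]) (by simp [hc₂])
      map_zero' := by rw [← map_zero (Ideal.Quotient.mk (I₁ ⊓ I₂))]; exact mk_inf_ext (by simp [hc₁]) (by simp [hc₂])
      map_add' := fun a b => by rw [← map_add]; exact mk_inf_ext (by simp [hc₁]) (by simp [hc₂])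
      commutes' := fun a => by
        refine mk_inf_ext (y := algebraMap A C a) ?_ ?_
        · rw [hc₁, AlgHom.commutes]; rfl
        · rw [hc₂, AlgHom.commutes]; rfl }, hc₁, hc₂⟩

/-- A map continuous after composition with a quotient by a nilpotent ideal is continuous. -/
theorem continuous_of_quotient {J : Ideal C} (hJ : IsNilpotent J) (v : B →ₐ[A] C) (𝔟 : Ideal B)
    (h : ∃ k : ℕ, ∀ x ∈ 𝔟 ^ k, Ideal.Quotient.mk J (v x) = 0) :
    ∃ k : ℕ, ∀ x ∈ 𝔟 ^ k, v x = 0 := by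
  obtain ⟨k, hk⟩ := h
  obtain ⟨t, ht⟩ := hJ
  refine ⟨k * t, fun x hx => ?_⟩
  have hmem : v x ∈ ((𝔟 ^ k).map v.toRingHom) ^ t := by
    rw [← Ideal.map_pow, ← pow_mul]
    exact Ideal.mem_map_of_mem v.toRingHom hx
  have hle : (𝔟 ^ k).map v.toRingHom ≤ J :=
    Ideal.map_le_iff_le_comap.mpr fun y hy => (Ideal.mem_comap (f := v.toRingHom)).mpr (Ideal.Quotient.eq_zero_iff_mem.mp (hk y hy))
  have := Ideal.pow_right_mono hle t hmem
  rw [ht] at this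
  simpa using this

end Quot

variable {A B : Type u} [CommRing A] [CommRing B] [Algebra A B] {𝔞 : Ideal A} {𝔟 : Ideal B}

/-- Square-zero test ideals suffice. -/
theorem isFormallySmoothAdic_of_sq
    (h : ∀ (C : Type u) [CommRing C] [Algebra A C] (J : Ideal C), J ^ 2 = ⊥ →
      (∃ k : ℕ, (𝔞 ^ k).map (algebraMap A C) = ⊥) →
      ∀ u : B →ₐ[A] C ⧸ J, (∃ k : ℕ, ∀ x ∈ 𝔟 ^ k, u x = 0) →
        ∃ v : B →ₐ[A] C, (Ideal.Quotient.mkₐ A J).comp v = u) :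
    IsFormallySmoothAdic A 𝔞 B 𝔟 := by
  intro C _ _ J hJ
  refine Ideal.IsNilpotent.induction_on (S := C) (P := fun {S} _ I => IsNilpotent I → ∀ [Algebra A S],
    (∃ k : ℕ, (𝔞 ^ k).map (algebraMap A S) = ⊥) →
      ∀ u : B →ₐ[A] S ⧸ I, (∃ k : ℕ, ∀ x ∈ 𝔟 ^ k, u x = 0) →
        ∃ v : B →ₐ[A] S, (Ideal.Quotient.mkₐ A I).comp v = u) J hJ ?_ ?_ hJ
  · intro S _ I hI _ _ hA u hu
    exact h S I hI hA u hu
  · intro S _ I L hIL hI hL hnL _ hA u hu
    have hnI : IsNilpotent I := by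
      obtain ⟨t, ht⟩ := hnL
      exact ⟨t, le_bot_iff.mp ((Ideal.pow_right_mono hIL t).trans (le_of_eq ht))⟩
    have hnL' : IsNilpotent (L.map (Ideal.Quotient.mk I)) := by
      obtain ⟨t, ht⟩ := hnL
      exact ⟨t, by rw [← Ideal.map_pow, ht]; simp⟩
    have hA' : ∃ k : ℕ, (𝔞 ^ k).map (algebraMap A (S ⧸ I)) = ⊥ := by
      obtain ⟨k, hk⟩ := hA
      refine ⟨k, ?_⟩
      rw [IsScalarTower.algebraMap_eq A S (S ⧸ I), ← Ideal.map_map, hk, Ideal.map_bot]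
    let e : ((S ⧸ I) ⧸ L.map (Ideal.Quotient.mk I)) ≃ₐ[A] S ⧸ L :=
      DoubleQuot.quotQuotEquivQuotOfLEₐ A hIL
    obtain ⟨g, hg⟩ := hL hnL' hA' (e.symm.toAlgHom.comp u) (hu.imp fun k hk x hx => by simp [hk x hx])
    have hgc : ∃ k : ℕ, ∀ x ∈ 𝔟 ^ k, g x = 0 :=
      continuous_of_quotient hnL' g 𝔟 (hu.imp fun k hk x hx => by
        have := AlgHom.congr_fun hg x
        simp only [AlgHom.comp_apply, Ideal.Quotient.mkₐ_eq_mk] at this
        rw [this, hk x hx, map_zero])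
    obtain ⟨f, hf⟩ := hI hnI hA g hgc
    refine ⟨f, AlgHom.ext fun b => ?_⟩
    show Ideal.Quotient.mk L (f b) = u b
    have h1 := congrArg e (AlgHom.congr_fun hg b)
    have h2 : Ideal.Quotient.mk I (f b) = g b := AlgHom.congr_fun hf b
    have h3 : e (Ideal.Quotient.mk _ (Ideal.Quotient.mk I (f b))) = Ideal.Quotient.mk L (f b) := rfl
    rw [← h3, h2]
    exact h1.trans (e.apply_symm_apply _)

/-- For a discrete base the nilpotent and square-zero notions agree. -/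
theorem isAdicFormallySmooth_iff :
    CAlgX.IsAdicFormallySmooth A B 𝔟 ↔ IsFormallySmoothAdic A ⊥ B 𝔟 := by
  refine ⟨fun h => isFormallySmoothAdic_of_sq fun C _ _ J hJ _ u hu => h C J hJ u hu,
    fun h C _ _ J hJ u hu => h C J ⟨2, hJ⟩ ⟨1, by simp⟩ u hu⟩

theorem trans' {C : Type u} [CommRing C] [Algebra B C] [Algebra A C] [IsScalarTower A B C] {𝔠 : Ideal C}
    (hBC : ∃ k : ℕ, (𝔟 ^ k).map (algebraMap B C) ≤ 𝔠)
    (hB : IsFormallySmoothAdic A 𝔞 B 𝔟) (hC : IsFormallySmoothAdic B 𝔟 C 𝔠) :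
    IsFormallySmoothAdic A 𝔞 C 𝔠 := by
  intro E _ _ J hJ hA u ⟨k, hk⟩
  obtain ⟨m, hm⟩ := hBC
  obtain ⟨v, hv⟩ := hB E J hJ hA (u.comp (IsScalarTower.toAlgHom A B C)) ⟨m * k, fun x hx => hk _ (by
    have : algebraMap B C x ∈ ((𝔟 ^ m).map (algebraMap B C)) ^ k := by
      rw [← Ideal.map_pow, ← pow_mul]; exact Ideal.mem_map_of_mem _ hx
    exact Ideal.pow_right_mono hm k this)⟩
  obtain ⟨t, ht⟩ := continuous_of_quotient hJ v 𝔟 ⟨m * k, fun x hx => by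
    refine (AlgHom.congr_fun hv x).trans (hk _ ?_)
    have : algebraMap B C x ∈ ((𝔟 ^ m).map (algebraMap B C)) ^ k := by
      rw [← Ideal.map_pow, ← pow_mul]; exact Ideal.mem_map_of_mem _ hx
    exact Ideal.pow_right_mono hm k this⟩
  let _ : Algebra B E := v.toRingHom.toAlgebra
  have : IsScalarTower A B E := IsScalarTower.of_algebraMap_eq fun a => (v.commutes a).symm
  let u' : C →ₐ[B] E ⧸ J :=
    { u.toRingHom with commutes' := fun b => (AlgHom.congr_fun hv b).symm }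
  obtain ⟨w, hw⟩ := hC E J hJ ⟨t, (Ideal.map_eq_bot_iff_le_ker _).mpr fun x hx => ht x hx⟩ u' ⟨k, hk⟩
  exact ⟨w.restrictScalars A, AlgHom.ext fun c => (AlgHom.congr_fun hw c :)⟩

end Groth.Ega41Adic
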