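import Groth.Agent.Ega41Adic.Basic
import Groth.Agent.Ega41Adic.PowerSeries
import Groth.Agent.Calg6.CompleteLocal
import Groth.Agent.Ega41Dim.SystemParams
import Groth.Agent.Ega41Sep.Separable
import Mathlib.RingTheory.Smooth.Basic

/-! A Noetherian local algebra over a field, formally smooth for its adic topology, is regular. -/

universe u

namespace Groth.Ega41Adic

open IsLocalRing Polynomial Filter Groth.Ega41Dim Groth.SGA7.PS

theorem surjective_of_surjective_mod_sq {A C : Type u} [CommRing A] [CommRing C] (v : A →+* C) (n : Ideal C)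
    (hn : IsNilpotent n) (h : ∀ c, ∃ a, c - v a ∈ n ^ 2) : Function.Surjective v := by
  have hsq : ∀ (j : ℕ), ∀ c ∈ n ^ (j + 1), ∃ a, v a ∈ n ^ (j + 1) ∧ c - v a ∈ n ^ (j + 2) := by
    intro j
    induction j with
    | zero =>
      intro c hc
      obtain ⟨a, ha⟩ := h c
      refine ⟨a, ?_, ha⟩
      rw [show v a = c - (c - v a) by ring]
      exact sub_mem hc (Ideal.pow_le_pow_right (by lia) ha)
    | succ j ih =>
      intro c hc
      rw [pow_succ] at hc
      induction hc using Submodule.mul_induction_on' with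
      | mem_mul_mem x hx y hy =>
        obtain ⟨a, ha, ha'⟩ := ih x hx
        obtain ⟨b, hb⟩ := h y
        refine ⟨a * b, ?_, ?_⟩
        · rw [map_mul, show v b = y - (y - v b) by ring, pow_succ]
          exact Ideal.mul_mem_mul ha (sub_mem hy (Ideal.pow_le_self two_ne_zero hb))
        · rw [map_mul, show x * y - v a * v b = (x - v a) * y + v a * (y - v b) by ring]
          refine add_mem ?_ ?_
          · rw [pow_succ]
            exact Ideal.mul_mem_mul ha' hy
          · rw [show j + 1 + 2 = (j + 1) + 2 from rfl, pow_add]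
            exact Ideal.mul_mem_mul ha hb
      | add x _ y _ hx hy =>
        obtain ⟨a, ha, ha'⟩ := hx
        obtain ⟨b, hb, hb'⟩ := hy
        exact ⟨a + b, by rw [map_add]; exact add_mem ha hb,
          by rw [map_add, show x + y - (v a + v b) = (x - v a) + (y - v b) by ring]; exact add_mem ha' hb'⟩
  have key : ∀ (j : ℕ) (c : C), ∃ a, c - v a ∈ n ^ (j + 1) := by
    intro j
    induction j with
    | zero => exact fun c => (h c).imp fun a ha => Ideal.pow_le_pow_right (by lia) ha
    | succ j ih =>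
      intro c
      obtain ⟨a, ha⟩ := ih c
      obtain ⟨b, -, hb⟩ := hsq j _ ha
      exact ⟨a + b, by rwa [map_add, ← sub_sub]⟩
  intro c
  obtain ⟨t, ht⟩ := hn
  obtain ⟨a, ha⟩ := key t c
  refine ⟨a, (sub_eq_zero.mp ?_).symm⟩
  have h2 : n ^ (t + 1) = ⊥ := by rw [pow_succ, ht]; exact Submodule.bot_mul _
  exact (Submodule.mem_bot C).mp (h2 ▸ ha)

theorem length_le_of_ringHom_surjective {A C : Type u} [CommRing A] [CommRing C] (v : A →+* C)
    (hv : Function.Surjective v) (I : Ideal A) (hI : ∀ x ∈ I, v x = 0) :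
    Module.length C C ≤ Module.length A (A ⧸ I) := by
  letI := v.toAlgebra
  rw [← Module.length_eq_of_surjective (S := A) (R := C) (M := C) hv]
  refine Module.length_le_of_surjective (Submodule.liftQ I (Algebra.linearMap A C) fun x hx => hI x hx) fun y => ?_
  obtain ⟨x, rfl⟩ := hv y
  exact ⟨Submodule.Quotient.mk x, rfl⟩

section core

variable {F A : Type u} [Field F] [CommRing A] [IsLocalRing A] [IsNoetherianRing A] [Algebra F A]
  [Algebra.FormallySmooth F (ResidueField A)]

/-- The comparison `A → K[[X]]/(X)^N`. -/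
theorem exists_surjective_powerSeries_quotient (hA : EGA41.IsFormallySmoothAdic F ⊥ A (maximalIdeal A)) :
    ∀ N : ℕ, ∃ v : A →+* MvPowerSeries (Fin (maximalIdeal A).spanFinrank) (ResidueField A) ⧸
        varIdeal (Fin (maximalIdeal A).spanFinrank) (ResidueField A) ^ N,
      Function.Surjective v ∧ ∀ x ∈ maximalIdeal A ^ N, v x = 0 := by
  classical
  let e := (maximalIdeal A).spanFinrank
  let K := ResidueField A
  let R := MvPowerSeries (Fin e) K
  let n : Ideal R := varIdeal (Fin e) K
  let A2 := A ⧸ maximalIdeal A ^ 2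
  -- a lifting of the residue field
  let π2 : A2 →ₐ[F] K := Ideal.Quotient.liftₐ (maximalIdeal A ^ 2) (IsScalarTower.toAlgHom F A K)
    (fun a ha => (residue_eq_zero_iff a).mpr (Ideal.pow_le_self two_ne_zero ha))
  have hπ2 : Function.Surjective π2 := fun k => by
    obtain ⟨a, rfl⟩ := residue_surjective k
    exact ⟨Ideal.Quotient.mk _ a, rfl⟩
  have hπ2nil : IsNilpotent (RingHom.ker (π2 : A2 →+* K)) := ⟨2, by
    rw [Submodule.zero_eq_bot, eq_bot_iff]
    have hle : RingHom.ker (π2 : A2 →+* K) ≤ (maximalIdeal A).map (Ideal.Quotient.mk (maximalIdeal A ^ 2)) := by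
      intro x hx
      obtain ⟨a, rfl⟩ := Ideal.Quotient.mk_surjective x
      exact Ideal.mem_map_of_mem _ ((residue_eq_zero_iff a).mp hx)
    refine (Ideal.pow_right_mono hle 2).trans ?_
    rw [← Ideal.map_pow, Ideal.map_quotient_self]⟩
  let s : K →ₐ[F] A2 := Algebra.FormallySmooth.liftOfSurjective (AlgHom.id F K) π2 hπ2 hπ2nil
  have hs : ∀ k, π2 (s k) = k := fun k => Algebra.FormallySmooth.liftOfSurjective_apply _ _ hπ2 hπ2nil k
  letI : Algebra K A2 := s.toRingHom.toAlgebra
  obtain ⟨g, hgc, hg⟩ : ∃ g : Fin e → maximalIdeal A,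
      Submodule.span A (Set.range fun i => (g i : A)) = maximalIdeal A ∧
        ∀ i, (g i : A) ∈ maximalIdeal A := by
    obtain ⟨T, hT, hspan⟩ := Submodule.FG.exists_span_finset_card_eq_spanFinrank (IsNoetherian.noetherian (maximalIdeal A))
    let eq := (T.equivFinOfCardEq hT).symm
    refine ⟨fun i => ⟨(eq i : A), hspan.le (Submodule.subset_span (eq i).2)⟩, ?_, fun i => hspan.le (Submodule.subset_span (eq i).2)⟩
    conv_rhs => rw [← hspan]
    congr 1
    ext x
    exact ⟨fun ⟨i, hi⟩ => hi ▸ (eq i).2, fun hx => ⟨eq.symm ⟨x, hx⟩, by simp⟩⟩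
  let z : Fin e → A2 := fun i => Ideal.Quotient.mk _ (g i : A)
  have hz : ∀ i, IsNilpotent (z i) := fun i => ⟨2, by
    rw [← map_pow, Ideal.Quotient.eq_zero_iff_mem]
    exact Ideal.pow_mem_pow (hg i) 2⟩
  obtain ⟨φ, hφX, -⟩ := exists_algHom_powerSeries (A := K) z hz
  have hφn : n ≤ ((maximalIdeal A).map (Ideal.Quotient.mk (maximalIdeal A ^ 2))).comap φ.toRingHom := by
    show varIdeal (Fin e) K ≤ _
    rw [varIdeal, Ideal.span_le]
    rintro _ ⟨i, rfl⟩
    rw [SetLike.mem_coe, Ideal.mem_comap]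
    show φ (MvPowerSeries.X i) ∈ _
    rw [hφX]
    exact Ideal.mem_map_of_mem _ (hg i)
  have hφ2 : ∀ f ∈ n ^ 2, φ f = 0 := fun f hf => by
    have h := Ideal.pow_right_mono (Ideal.map_le_iff_le_comap.mpr hφn) 2
      (by rw [← Ideal.map_pow]; exact Ideal.mem_map_of_mem φ.toRingHom hf)
    rw [← Ideal.map_pow, Ideal.map_quotient_self] at h
    exact h
  let φ2 : R ⧸ n ^ 2 →ₐ[F] A2 := Ideal.Quotient.liftₐ (n ^ 2) (φ.restrictScalars F) hφ2
  have hsmk : ∀ a : A, s (residue A a) * 1 - Ideal.Quotient.mk (maximalIdeal A ^ 2) a ∈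
      (maximalIdeal A).map (Ideal.Quotient.mk (maximalIdeal A ^ 2)) := fun a => by
    obtain ⟨b, hb⟩ := Ideal.Quotient.mk_surjective (s (residue A a))
    rw [mul_one, ← hb, ← map_sub]
    refine Ideal.mem_map_of_mem _ ((residue_eq_zero_iff _).mp ?_)
    rw [map_sub, sub_eq_zero]
    exact (congrArg π2 hb).trans (hs _)
  have hsmul : ∀ (a : A) (i : Fin e), s (residue A a) * z i = Ideal.Quotient.mk (maximalIdeal A ^ 2) a * z i := fun a i => by
    rw [← sub_eq_zero, ← sub_mul]
    have h := Ideal.mul_mem_mul (hsmk a) (Ideal.mem_map_of_mem (Ideal.Quotient.mk (maximalIdeal A ^ 2)) (hg i))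
    rw [← Ideal.map_mul, ← sq, Ideal.map_quotient_self, mul_one] at h
    exact h
  have hφC : ∀ c : K, φ (MvPowerSeries.C c) = s c := fun c => φ.commutes c
  have hsurj : Function.Surjective φ2 := fun y => by
    obtain ⟨a, rfl⟩ := Ideal.Quotient.mk_surjective y
    obtain ⟨b, hb⟩ := Ideal.Quotient.mk_surjective (s (residue A a))
    have hab : a - b ∈ maximalIdeal A := (residue_eq_zero_iff _).mp (by
      rw [map_sub, sub_eq_zero]; exact ((congrArg π2 hb).trans (hs _)).symm)
    obtain ⟨c, hc⟩ := (Submodule.mem_span_range_iff_exists_fun A).mp (hgc.ge hab)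
    refine ⟨Ideal.Quotient.mk _ (MvPowerSeries.C (residue A a) + ∑ i, MvPowerSeries.C (residue A (c i)) * MvPowerSeries.X i), ?_⟩
    show φ _ = _
    simp only [map_add, map_sum, map_mul, hφX, hφC, hsmul, ← hb]
    rw [← eq_sub_iff_add_eq', ← map_sub, ← hc, map_sum]
    simp [z]
  have hinj : Function.Injective φ2 := by
    rw [injective_iff_map_eq_zero]
    intro y hy
    obtain ⟨f, rfl⟩ := Ideal.Quotient.mk_surjective y
    have hy' : φ f = 0 := hy
    let c : Fin e → K := fun i => MvPowerSeries.coeff (Finsupp.single i 1) f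
    have hmem : f - MvPowerSeries.C (MvPowerSeries.constantCoeff f) - ∑ i, MvPowerSeries.C (c i) * MvPowerSeries.X i ∈ n ^ 2 := by
      refine mem_varIdeal_sq _ ?_ ?_
      · simp
      · intro i
        simp [map_sub, map_sum, MvPowerSeries.coeff_C_mul, MvPowerSeries.coeff_X, Finsupp.single_left_inj, c,
          MvPowerSeries.coeff_C]
    have h1 := hφ2 _ hmem
    simp only [map_sub, map_sum, map_mul, hy', hφX, hφC] at h1
    have h0 : MvPowerSeries.constantCoeff f = 0 := by
      have h2 := congrArg π2 h1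
      have hzπ : ∀ i, π2 (z i) = 0 := fun i => (residue_eq_zero_iff _).mpr (hg i)
      simpa [map_sub, map_sum, map_mul, hs, hzπ] using h2
    rw [h0, map_zero, sub_zero, zero_sub, neg_eq_zero] at h1
    choose a ha using fun i => residue_surjective (c i)
    simp only [← ha, hsmul, z, ← map_mul, ← map_sum, Ideal.Quotient.eq_zero_iff_mem] at h1
    have hc : ∀ i, a i ∈ maximalIdeal A := by
      intro l
      by_contra hu
      rw [notMem_maximalIdeal] at hu
      let T : Finset A := (Finset.univ.erase l).image fun i => (g i : A)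
      have hle : maximalIdeal A ≤ Ideal.span (T : Set A) ⊔ maximalIdeal A • maximalIdeal A := by
        conv_lhs => rw [← hgc]
        rw [Submodule.span_le]
        rintro _ ⟨i, rfl⟩
        have hoth : ∀ j, j ≠ l → (g j : A) ∈ Ideal.span (T : Set A) ⊔ maximalIdeal A • maximalIdeal A := fun j hj =>
          Submodule.mem_sup_left (Ideal.subset_span (Finset.mem_image.mpr ⟨j, by simp [hj], rfl⟩))
        by_cases hil : i = l
        · subst hil
          have h3 : a i * g i ∈ Ideal.span (T : Set A) ⊔ maximalIdeal A • maximalIdeal A := by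
            rw [← Finset.add_sum_erase _ _ (Finset.mem_univ i)] at h1
            refine (Submodule.add_mem_iff_left _ (sum_mem fun j hj => ?_)).mp
              (Submodule.mem_sup_right (by rw [smul_eq_mul, ← sq]; exact Ideal.Quotient.eq_zero_iff_mem.mp h1))
            exact Ideal.mul_mem_left _ _ (hoth j (Finset.ne_of_mem_erase hj))
          exact (Ideal.unit_mul_mem_iff_mem _ hu).mp h3
        · exact hoth i hil
      have hm : maximalIdeal A ≤ Ideal.span (T : Set A) :=
        Submodule.le_of_le_smul_of_le_jacobson_bot (IsNoetherian.noetherian _) (maximalIdeal_le_jacobson ⊥) hle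
      have heq : maximalIdeal A = Submodule.span A (T : Set A) := le_antisymm hm (Submodule.span_le.mpr (by
        intro x hx
        obtain ⟨j, -, rfl⟩ := Finset.mem_image.mp hx
        exact hg j))
      have hlt : T.card < e := Finset.card_image_le.trans_lt (by
        rw [Finset.card_erase_of_mem (Finset.mem_univ l), Finset.card_univ, Fintype.card_fin]
        exact Nat.sub_lt l.pos one_pos)
      have := Submodule.spanFinrank_span_le_ncard_of_finite (R := A) T.finite_toSet
      rw [← heq, Set.ncard_coe_finset] at this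
      exact absurd this (by show ¬ e ≤ _; lia)
    refine Ideal.Quotient.eq_zero_iff_mem.mpr ?_
    have hc0 : ∀ i, c i = 0 := fun i => by rw [← ha i]; exact (residue_eq_zero_iff _).mpr (hc i)
    simpa [h0, hc0] using hmem
  let e2 : (R ⧸ n ^ 2) ≃ₐ[F] A2 := AlgEquiv.ofBijective φ2 ⟨hinj, hsurj⟩
  intro N
  let J : Ideal (R ⧸ n ^ N) := (n ^ 2 ⊔ n ^ N).map (Ideal.Quotient.mk (n ^ N))
  let nN : Ideal (R ⧸ n ^ N) := n.map (Ideal.Quotient.mk (n ^ N))
  have hnN : IsNilpotent nN := ⟨N, by rw [← Ideal.map_pow, Ideal.map_quotient_self]; rfl⟩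
  have hJeq : J = nN ^ 2 := by
    show Ideal.map _ (n ^ 2 ⊔ n ^ N) = _
    rw [Ideal.map_sup, Ideal.map_quotient_self, sup_bot_eq, Ideal.map_pow]
  have hJ : IsNilpotent J := by
    obtain ⟨t, ht⟩ := hnN
    exact ⟨t, by rw [hJeq, ← pow_mul, mul_comm, pow_mul, ht, Submodule.zero_eq_bot, sq]; exact Submodule.bot_mul _⟩
  let eJ : ((R ⧸ n ^ N) ⧸ J) ≃ₐ[F] R ⧸ (n ^ 2 ⊔ n ^ N) :=
    DoubleQuot.quotQuotEquivQuotOfLEₐ F le_sup_right
  let u : A →ₐ[F] (R ⧸ n ^ N) ⧸ J :=
    eJ.symm.toAlgHom.comp ((Ideal.Quotient.factorₐ F (le_sup_left : n ^ 2 ≤ n ^ 2 ⊔ n ^ N)).comp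
      (e2.symm.toAlgHom.comp (Ideal.Quotient.mkₐ F (maximalIdeal A ^ 2))))
  have hu : ∀ (a : A) (f : R), e2 (Ideal.Quotient.mk (n ^ 2) f) = Ideal.Quotient.mk (maximalIdeal A ^ 2) a →
      u a = Ideal.Quotient.mk J (Ideal.Quotient.mk (n ^ N) f) := fun a f h => by
    show eJ.symm (Ideal.Quotient.factorₐ F (le_sup_left : n ^ 2 ≤ n ^ 2 ⊔ n ^ N) (e2.symm (Ideal.Quotient.mk (maximalIdeal A ^ 2) a))) = _
    rw [← h, AlgEquiv.symm_apply_apply]
    apply eJ.injective
    rw [AlgEquiv.apply_symm_apply]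
    rfl
  obtain ⟨v, hv⟩ := hA (R ⧸ n ^ N) J hJ ⟨1, by rw [pow_one]; exact Ideal.map_bot⟩ u ⟨2, fun x hx => by
    rw [hu x 0 (by rw [map_zero, map_zero, Ideal.Quotient.eq_zero_iff_mem.mpr hx]), map_zero, map_zero]⟩
  have hv' : ∀ c, ∃ a, c - v a ∈ nN ^ 2 := fun c => by
    obtain ⟨f, rfl⟩ := Ideal.Quotient.mk_surjective c
    obtain ⟨a, ha⟩ := Ideal.Quotient.mk_surjective (e2 (Ideal.Quotient.mk (n ^ 2) f))
    refine ⟨a, hJeq ▸ Ideal.Quotient.eq.mp ?_⟩
    rw [show Ideal.Quotient.mk J (v a) = u a from AlgHom.congr_fun hv a, hu a f ha.symm]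
  refine ⟨v.toRingHom, surjective_of_surjective_mod_sq v.toRingHom nN hnN hv', fun x hx => ?_⟩
  have hmn : (maximalIdeal A).map v.toRingHom ≤ nN := by
    rw [Ideal.map_le_iff_le_comap]
    intro y hy
    have hy2 : π2 (Ideal.Quotient.mk _ y) = 0 := (residue_eq_zero_iff y).mpr hy
    obtain ⟨f, hf⟩ := Ideal.Quotient.mk_surjective (e2.symm (Ideal.Quotient.mk (maximalIdeal A ^ 2) y))
    have hf0 : MvPowerSeries.constantCoeff f = 0 := by
      have h1 := congrArg π2 ((congrArg e2 hf).trans (e2.apply_symm_apply _))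
      rw [hy2] at h1
      by_contra hne
      have hu : IsUnit f := MvPowerSeries.isUnit_iff_constantCoeff.mpr (Ne.isUnit hne)
      have h2 := (hu.map φ.toRingHom).map π2
      exact h2.ne_zero h1
    have h3 : v y - Ideal.Quotient.mk (n ^ N) f ∈ J := by
      refine Ideal.Quotient.eq.mp ?_
      rw [show Ideal.Quotient.mk J (v y) = u y from AlgHom.congr_fun hv y]
      exact hu y f ((congrArg e2 hf).trans (e2.apply_symm_apply _))
    show v y ∈ nN
    rw [show v y = (v y - Ideal.Quotient.mk (n ^ N) f) + Ideal.Quotient.mk (n ^ N) f by ring]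
    exact add_mem (Ideal.pow_le_self two_ne_zero (hJeq ▸ h3))
      (Ideal.mem_map_of_mem _ ((mem_varIdeal_iff f).mpr hf0))
  have h4 := Ideal.pow_right_mono hmn N (by rw [← Ideal.map_pow]; exact Ideal.mem_map_of_mem v.toRingHom hx)
  rw [← Ideal.map_pow, Ideal.map_quotient_self] at h4
  exact h4

theorem isRegularLocalRing_of_isFormallySmoothAdic (hA : EGA41.IsFormallySmoothAdic F ⊥ A (maximalIdeal A)) :
    IsRegularLocalRing A := by
  refine IsRegularLocalRing.of_spanFinrank_maximalIdeal_le _ ?_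
  haveI := Groth.Calg6.isRegularLocalRing_mvPowerSeries (ResidueField A) (maximalIdeal A).spanFinrank
  have hdim := Groth.Calg6.ringKrullDim_mvPowerSeries (ResidueField A) (maximalIdeal A).spanFinrank
  set R := MvPowerSeries (Fin (maximalIdeal A).spanFinrank) (ResidueField A)
  have hmax : ∀ (L : Type u) [CommRing L] [IsLocalRing L] (p : Ideal L), p.IsPrime → maximalIdeal L ≤ p → p.IsMaximal :=
    fun L _ _ p hp hle => ((IsLocalRing.maximalIdeal.isMaximal L).eq_of_le hp.ne_top hle) ▸ IsLocalRing.maximalIdeal.isMaximal L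
  haveI := isArtinianRing_quotient_of_forall_isMaximal (maximalIdeal A) (hmax A)
  haveI := isArtinianRing_quotient_of_forall_isMaximal (maximalIdeal R) (hmax R)
  obtain ⟨P, hP⟩ := exists_isHSPoly (maximalIdeal A) A
  obtain ⟨Q, hQ⟩ := exists_isHSPoly (maximalIdeal R) R
  have hdA := natDegree_eq_supportDim (hmax A) (maximalIdeal_le_jacobson ⊥) hP
  have hdR := natDegree_eq_supportDim (hmax R) (maximalIdeal_le_jacobson ⊥) hQ
  rw [Module.supportDim_self_eq_ringKrullDim] at hdA hdR
  rw [hdim] at hdR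
  have hle : ∀ N, hs (maximalIdeal R) R N ≤ hs (maximalIdeal A) A N := fun N => by
    obtain ⟨v, hv, hvN⟩ := exists_surjective_powerSeries_quotient hA N
    refine ENat.toNat_le_toNat ?_ (length_quot_ne_top _ A N)
    have e : maximalIdeal R ^ N • (⊤ : Submodule R R) = varIdeal _ (ResidueField A) ^ N := by
      rw [smul_eq_mul, Ideal.mul_top, Groth.SGA7.PS.maximalIdeal_eq]
    rw [e, Module.length_eq_of_surjective (S := R) (R := R ⧸ varIdeal _ (ResidueField A) ^ N) Ideal.Quotient.mk_surjective]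
    exact length_le_of_ringHom_surjective v hv _ fun x hx => hvN x (by simpa [smul_eq_mul, Ideal.mul_top] using hx)
  have hdeg : Q.natDegree ≤ P.natDegree := natDegree_le_of_eventually_le (by
    filter_upwards [hP, hQ] with N h1 h2
    rw [← h1, ← h2]
    exact ⟨Nat.cast_nonneg _, Nat.cast_le.mpr (hle N)⟩)
  rw [← hdA, ← hdR]
  exact_mod_cast hdeg

end core

theorem isFormallySmoothAdic_bot_of_formallySmooth {A B : Type u} [CommRing A] [CommRing B] [Algebra A B]
    [Algebra.FormallySmooth A B] : EGA41.IsFormallySmoothAdic A ⊥ B ⊥ :=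
  fun _ _ _ J hJ _ u _ => Algebra.FormallySmooth.exists_lift J hJ u

/-- For every field `k` there is a subfield over which every extension field of `k` is formally smooth. -/
theorem exists_primeField (k : Type u) [Field k] :
    ∃ (F : Type u) (_ : Field F) (_ : Algebra F k), Algebra.FormallySmooth F k ∧
      ∀ (K : Type u) [Field K] [Algebra k K] [Algebra F K] [IsScalarTower F k K], Algebra.FormallySmooth F K := by
  obtain h | ⟨p, hp, hpk⟩ := CharP.exists' k
  · exact ⟨k, inferInstance, inferInstance, Groth.Ega41Sep.formallySmooth_charZero k k,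
      fun K _ _ _ _ => Groth.Ega41Sep.formallySmooth_charZero k K⟩
  · haveI := hp
    letI := Groth.Ega41Sep.zmodUAlgebra p k
    haveI : Fact p.Prime := hp
    letI : Field (Groth.Ega41Sep.ZModU.{u} p) := inferInstance
    refine ⟨Groth.Ega41Sep.ZModU.{u} p, inferInstance, inferInstance, Groth.Ega41Sep.formallySmooth_zmodU p k, ?_⟩
    intro K _ _ _ _
    haveI : CharP K p := charP_of_injective_algebraMap (algebraMap k K).injective p
    exact Groth.Ega41Sep.formallySmooth_zmodU p K

/-- A Noetherian local algebra over a field, formally smooth for the adic topology, is regular. -/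
theorem isRegularLocalRing_of_isAdicFormallySmooth {k A : Type u} [Field k] [CommRing A] [IsLocalRing A]
    [IsNoetherianRing A] [Algebra k A] (hA : CAlgX.IsAdicFormallySmooth k A (maximalIdeal A)) :
    IsRegularLocalRing A := by
  obtain ⟨F, _, _, hFk, hFK⟩ := exists_primeField k
  letI : Algebra F A := ((algebraMap k A).comp (algebraMap F k)).toAlgebra
  haveI : IsScalarTower F k A := IsScalarTower.of_algebraMap_eq fun _ => rfl
  haveI : IsScalarTower F k (ResidueField A) := IsScalarTower.of_algebraMap_eq fun x => by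
    rw [IsScalarTower.algebraMap_apply F A (ResidueField A), IsScalarTower.algebraMap_apply k A (ResidueField A)]
    rfl
  haveI := hFK (ResidueField A)
  exact isRegularLocalRing_of_isFormallySmoothAdic (F := F)
    (trans' ⟨1, by rw [pow_one, Ideal.map_bot]; exact bot_le⟩ isFormallySmoothAdic_bot_of_formallySmooth
      (isAdicFormallySmooth_iff.mp hA))

end Groth.Ega41Adic
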