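import Mathlib.RingTheory.LocalRing.Module
import Mathlib.RingTheory.Localization.AtPrime.Basic
import Mathlib.RingTheory.LocalRing.ResidueField.Ideal
import Mathlib.Algebra.Module.LocalizedModule.Basic
import Mathlib.RingTheory.Flat.FaithfullyFlat.Basic
import Mathlib.RingTheory.TensorProduct.IsBaseChangeHom
import Mathlib.RingTheory.Localization.BaseChange

/-! Left invertible maps from finite modules to projective modules. -/

universe u

namespace Groth.Ega41Adic

open TensorProduct

variable {A : Type u} [CommRing A] {M N : Type u} [AddCommGroup M] [Module A M] [AddCommGroup N] [Module A N]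

/-- A map from a finite module to a projective one factors through a finite free direct summand. -/
theorem exists_finite_free_factor [Module.Finite A M] [Module.Projective A N] (u : M →ₗ[A] N) :
    ∃ (n : ℕ) (f : M →ₗ[A] (Fin n → A)) (g : (Fin n → A) →ₗ[A] N) (s : N →ₗ[A] (Fin n → A)),
      g ∘ₗ f = u ∧ s ∘ₗ u = f := by
  classical
  obtain ⟨ι, hι⟩ := Module.projective_def'.mp (inferInstance : Module.Projective A N)
  obtain ⟨G, hG⟩ := (Module.Finite.fg_top : (⊤ : Submodule A M).FG)
  let S : Finset N := G.biUnion fun m => (ι (u m)).support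
  let e := S.equivFin
  let s : N →ₗ[A] (Fin S.card → A) := LinearMap.pi fun i => (Finsupp.lapply (e.symm i : N)) ∘ₗ ι
  let g : (Fin S.card → A) →ₗ[A] N := Fintype.linearCombination A fun i => (e.symm i : N)
  refine ⟨S.card, s ∘ₗ u, g, s, ?_, rfl⟩
  refine LinearMap.ext_on hG fun m hm => ?_
  have hsup : (ι (u m)).support ⊆ S := Finset.subset_biUnion_of_mem (fun m => (ι (u m)).support) hm
  conv_rhs => rw [← LinearMap.id_apply (R := A) (u m), ← hι, LinearMap.comp_apply,
    Finsupp.linearCombination_apply, Finsupp.sum_of_support_subset _ hsup _ (by simp)]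
  simp only [LinearMap.comp_apply, g, Fintype.linearCombination_apply, s, LinearMap.pi_apply,
    Finsupp.lapply_apply, id]
  rw [← Finset.sum_coe_sort S]
  exact Fintype.sum_equiv e.symm _ _ fun i => rfl

/-- `u` is left invertible after inverting some element outside a given set. -/
def SplitBy (u : M →ₗ[A] N) (a : A) : Prop := ∃ w : N →ₗ[A] M, w ∘ₗ u = a • LinearMap.id

lemma splitBy_iff_of_factor {n : ℕ} {f : M →ₗ[A] (Fin n → A)} {g : (Fin n → A) →ₗ[A] N}
    {s : N →ₗ[A] (Fin n → A)} {u : M →ₗ[A] N} (hg : g ∘ₗ f = u) (hs : s ∘ₗ u = f) (a : A) :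
    SplitBy u a ↔ SplitBy f a := by
  constructor
  · rintro ⟨w, hw⟩; exact ⟨w ∘ₗ g, by rw [LinearMap.comp_assoc, hg, hw]⟩
  · rintro ⟨w, hw⟩; exact ⟨w ∘ₗ s, by rw [LinearMap.comp_assoc, hs, hw]⟩

/-- The elements by which `u` splits form an ideal. -/
def splitIdeal (u : M →ₗ[A] N) : Ideal A where
  carrier := {a | SplitBy u a}
  add_mem' := by
    rintro a b ⟨w, hw⟩ ⟨w', hw'⟩
    exact ⟨w + w', by rw [LinearMap.add_comp, hw, hw', add_smul]⟩
  zero_mem' := ⟨0, by simp⟩
  smul_mem' := by
    rintro c a ⟨w, hw⟩
    exact ⟨c • w, by rw [LinearMap.smul_comp, hw, smul_smul, smul_eq_mul]⟩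

lemma leftInverse_iff_one (u : M →ₗ[A] N) : (∃ w : N →ₗ[A] M, w ∘ₗ u = LinearMap.id) ↔ SplitBy u 1 := by
  simp [SplitBy]

/-- A left inverse after localization gives splitting by some element of the submonoid. -/
theorem exists_splitBy_of_localized [Module.Finite A M] {n : ℕ} (S : Submonoid A)
    (f : M →ₗ[A] (Fin n → A)) {M' N' : Type*} [AddCommGroup M'] [Module A M'] [AddCommGroup N'] [Module A N']
    (iM : M →ₗ[A] M') [IsLocalizedModule S iM] (iN : (Fin n → A) →ₗ[A] N')
    (l : N' →ₗ[A] M') (hl : ∀ m, l (iN (f m)) = iM m) : ∃ a ∈ S, SplitBy f a := by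
  classical
  choose x hx using fun i : Fin n => IsLocalizedModule.surj S iM (l (iN (Pi.single i 1)))
  let s₀ : A := ∏ i, ((x i).2 : A)
  let c : Fin n → A := fun i => ∏ j ∈ Finset.univ.erase i, ((x j).2 : A)
  have hc : ∀ i, c i * (x i).2 = s₀ := fun i => Finset.prod_erase_mul _ _ (Finset.mem_univ i)
  let w₀ : (Fin n → A) →ₗ[A] M := Fintype.linearCombination A fun i => c i • (x i).1
  have hw₀ : ∀ v, iM (w₀ v) = s₀ • l (iN v) := by
    have hext : iM ∘ₗ w₀ = s₀ • (l ∘ₗ iN) := by
      refine (Pi.basisFun A (Fin n)).ext fun i => ?_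
      simp only [Pi.basisFun_apply, LinearMap.comp_apply, LinearMap.smul_apply, w₀,
        Fintype.linearCombination_apply_single, one_smul]
      rw [map_smul, ← hx i, Submonoid.smul_def, smul_smul, hc]
    exact fun v => LinearMap.congr_fun hext v
  obtain ⟨G, hG⟩ := (Module.Finite.fg_top : (⊤ : Submodule A M).FG)
  have hm : ∀ m, ∃ t : S, (t : A) • w₀ (f m) = (t : A) • (s₀ • m) := fun m => by
    obtain ⟨t, ht⟩ := IsLocalizedModule.exists_of_eq (S := S) (f := iM)
      (x₁ := w₀ (f m)) (x₂ := s₀ • m) (by rw [hw₀, hl, map_smul])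
    exact ⟨t, by simpa [Submonoid.smul_def] using ht⟩
  choose t ht using hm
  let T : A := ∏ m ∈ G, (t m : A)
  refine ⟨T * s₀, S.mul_mem (prod_mem fun m _ => (t m).2) (prod_mem fun i _ => (x i).2.2), T • w₀,
    LinearMap.ext_on hG fun m hm => ?_⟩
  show T • w₀ (f m) = (T * s₀) • m
  rw [mul_smul, show T = (∏ j ∈ G.erase m, (t j : A)) * t m from (Finset.prod_erase_mul _ _ hm).symm,
    mul_smul, mul_smul, ht]

/-- The residue-field criterion. -/
theorem exists_splitBy_of_injective_residueField [Module.Finite A M] {n : ℕ} (f : M →ₗ[A] (Fin n → A))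
    (p : Ideal A) [p.IsPrime] (h : Function.Injective (f.lTensor p.ResidueField)) :
    ∃ a ∉ p, SplitBy f a := by
  let Ap := Localization.AtPrime p
  let fp := f.baseChange Ap
  have hinj : Function.Injective (fp.lTensor (IsLocalRing.ResidueField Ap)) := by
    have hcomm : ∀ x, AlgebraTensorModule.cancelBaseChange A Ap Ap (IsLocalRing.ResidueField Ap) (Fin n → A)
        (fp.lTensor (IsLocalRing.ResidueField Ap) x) =
        f.lTensor (IsLocalRing.ResidueField Ap)
          (AlgebraTensorModule.cancelBaseChange A Ap Ap (IsLocalRing.ResidueField Ap) M x) := by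
      intro x
      induction x with
      | zero => simp
      | add a b ha hb => simp only [map_add, ha, hb]
      | tmul k y =>
          induction y with
          | zero => simp
          | add a b ha hb => simp only [tmul_add, map_add, ha, hb]
          | tmul r m => simp [fp]
    intro x y hxy
    refine (AlgebraTensorModule.cancelBaseChange A Ap Ap (IsLocalRing.ResidueField Ap) M).injective (h ?_)
    exact (hcomm x).symm.trans ((congrArg _ hxy).trans (hcomm y))
  obtain ⟨l, hl⟩ := (IsLocalRing.split_injective_iff_lTensor_residueField_injective fp).mpr hinj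
  obtain ⟨a, ha, hsplit⟩ := exists_splitBy_of_localized p.primeCompl f
    (TensorProduct.mk A Ap M 1) (TensorProduct.mk A Ap (Fin n → A) 1) (l.restrictScalars A)
    (fun m => by simpa [fp] using LinearMap.congr_fun hl (1 ⊗ₜ m))
  exact ⟨a, ha, hsplit⟩

theorem injective_lTensor_of_splitBy {u : M →ₗ[A] N} {a : A} (h : SplitBy u a) (K : Type u)
    [Field K] [Algebra A K] (ha : algebraMap A K a ≠ 0) : Function.Injective (u.lTensor K) := by
  obtain ⟨w, hw⟩ := h
  intro x y hxy
  have h1 := congrArg (w.lTensor K) hxy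
  rw [← LinearMap.comp_apply, ← LinearMap.lTensor_comp, hw, LinearMap.lTensor_smul, LinearMap.lTensor_id,
    LinearMap.smul_apply, LinearMap.id_apply, ← LinearMap.comp_apply, ← LinearMap.lTensor_comp, hw,
    LinearMap.lTensor_smul, LinearMap.lTensor_id, LinearMap.smul_apply, LinearMap.id_apply,
    ← algebraMap_smul K a x, ← algebraMap_smul K a y] at h1
  exact smul_right_injective _ ha h1

theorem exists_splitBy_iff_injective [Module.Finite A M] [Module.Projective A N] (u : M →ₗ[A] N)
    (p : Ideal A) [p.IsPrime] :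
    (∃ a ∉ p, SplitBy u a) ↔ Function.Injective (u.lTensor p.ResidueField) := by
  constructor
  · rintro ⟨a, ha, h⟩
    exact injective_lTensor_of_splitBy h _ fun h0 => ha (Ideal.algebraMap_residueField_eq_zero.mp h0)
  · intro h
    obtain ⟨n, f, g, s, hg, hs⟩ := exists_finite_free_factor u
    have hf : Function.Injective (f.lTensor p.ResidueField) := by
      have : u.lTensor p.ResidueField = (g.lTensor p.ResidueField) ∘ₗ (f.lTensor p.ResidueField) := by
        rw [← LinearMap.lTensor_comp, hg]
      rw [this, LinearMap.coe_comp] at h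
      exact h.of_comp
    obtain ⟨a, ha, hsplit⟩ := exists_splitBy_of_injective_residueField f p hf
    exact ⟨a, ha, (splitBy_iff_of_factor hg hs a).mpr hsplit⟩

theorem leftInverse_localizedMap_iff [Module.Finite A M] [Module.Projective A N] (u : M →ₗ[A] N)
    (S : Submonoid A) :
    (∃ w : LocalizedModule S N →ₗ[A] LocalizedModule S M,
      w ∘ₗ (LocalizedModule.map S u).restrictScalars A = LinearMap.id) ↔ ∃ a ∈ S, SplitBy u a := by
  constructor
  · rintro ⟨w, hw⟩
    obtain ⟨n, f, g, s, hg, hs⟩ := exists_finite_free_factor u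
    obtain ⟨a, ha, hsplit⟩ := exists_splitBy_of_localized S f (LocalizedModule.mkLinearMap S M)
      ((LocalizedModule.mkLinearMap S N) ∘ₗ g) w fun m => by
        have h1 := LinearMap.congr_fun hw (LocalizedModule.mkLinearMap S M m)
        rw [LinearMap.id_apply] at h1
        conv_rhs => rw [← h1]
        simp only [LinearMap.comp_apply, ← hg]
        congr 1
        simp [LocalizedModule.map_mk]
    exact ⟨a, ha, (splitBy_iff_of_factor hg hs a).mpr hsplit⟩
  · rintro ⟨a, ha, w, hw⟩
    let W := (LocalizedModule.map S w).restrictScalars A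
    refine ⟨((Localization.mk 1 ⟨a, ha⟩ : Localization S) • (LinearMap.id : LocalizedModule S M →ₗ[Localization S] LocalizedModule S M)).restrictScalars A ∘ₗ W,
      LinearMap.ext fun x => ?_⟩
    induction x using LocalizedModule.induction_on with
    | _ m s =>
      have h1 : w (u m) = a • m := LinearMap.congr_fun hw m
      simp only [LinearMap.comp_apply, LinearMap.id_apply, W, LinearMap.restrictScalars_apply,
        LinearMap.smul_apply, LocalizedModule.map_mk, h1, LocalizedModule.mk_smul_mk, one_smul]
      exact LocalizedModule.mk_eq.mpr ⟨1, by simp [Submonoid.smul_def, smul_smul, mul_comm]⟩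

end Groth.Ega41Adic
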