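import Groth.Agent.Ega41Adic.CompletionFinite
import Groth.Agent.Ega41Adic.Differentials
import Mathlib.RingTheory.LocalRing.Module
import Mathlib.LinearAlgebra.Dimension.Constructions

/-! Freeness of completions of modules with projective truncations. -/

universe u v

namespace Groth.Ega41Adic

open TensorProduct

variable {B : Type u} [CommRing B] (I : Ideal B) {M : Type v} [AddCommGroup M] [Module B M] {r : ℕ}

theorem range_sup_pow_eq_top {f : (Fin r → B) →ₗ[B] M} (hf : LinearMap.range f ⊔ I • ⊤ = ⊤) :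
    ∀ n : ℕ, LinearMap.range f ⊔ I ^ n • (⊤ : Submodule B M) = ⊤
  | 0 => by simp
  | n + 1 => by
    rw [eq_top_iff]
    conv_lhs => rw [← range_sup_pow_eq_top hf n]
    refine sup_le le_sup_left ?_
    conv_lhs => rw [← hf]
    rw [Submodule.smul_sup, ← mul_smul, ← pow_succ]
    exact sup_le (Submodule.smul_le_right.trans le_sup_left) le_sup_right

/-- A family inducing a basis modulo `I` is injective modulo every power, given projectivity there. -/
theorem mem_pow_smul_top_of_projective {f : (Fin r → B) →ₗ[B] M} (hf : LinearMap.range f ⊔ I • ⊤ = ⊤)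
    (hinj : ∀ c, f c ∈ I • (⊤ : Submodule B M) → c ∈ I • (⊤ : Submodule B (Fin r → B))) (n : ℕ)
    [Module.Projective (B ⧸ I ^ (n + 1)) ((B ⧸ I ^ (n + 1)) ⊗[B] M)] (c : Fin r → B)
    (hc : f c ∈ I ^ (n + 1) • (⊤ : Submodule B M)) : c ∈ I ^ (n + 1) • (⊤ : Submodule B (Fin r → B)) := by
  let R := B ⧸ I ^ (n + 1)
  let fR : R ⊗[B] (Fin r → B) →ₗ[R] R ⊗[B] M := f.baseChange R
  have hsurj : Function.Surjective fR := by
    intro y
    induction y using TensorProduct.induction_on with
    | zero => exact ⟨0, map_zero _⟩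
    | add a b ha hb =>
      obtain ⟨a', rfl⟩ := ha
      obtain ⟨b', rfl⟩ := hb
      exact ⟨a' + b', map_add _ _ _⟩
    | tmul a m =>
      have hm0 : m ∈ LinearMap.range f ⊔ I ^ (n + 1) • (⊤ : Submodule B M) := by
        rw [range_sup_pow_eq_top I hf (n + 1)]; trivial
      obtain ⟨_, ⟨x, rfl⟩, e, he, hm⟩ := Submodule.mem_sup.mp hm0
      refine ⟨a ⊗ₜ x, ?_⟩
      rw [← hm]
      rw [LinearMap.baseChange_tmul, tmul_add, left_eq_add]
      refine Submodule.smul_induction_on he (fun t ht m _ => ?_) (fun y z hy hz => by rw [tmul_add, hy, hz, add_zero])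
      rw [tmul_smul, smul_tmul', Algebra.smul_def, show algebraMap B R t = 0 from Ideal.Quotient.eq_zero_iff_mem.mpr ht,
        zero_mul, zero_tmul]
  obtain ⟨s, hs⟩ := Module.projective_lifting_property fR LinearMap.id hsurj
  let P : R ⊗[B] (Fin r → B) →ₗ[R] R ⊗[B] (Fin r → B) := LinearMap.id - s ∘ₗ fR
  have hP : ∀ x, fR (P x) = 0 := fun x => by
    simp only [P, LinearMap.sub_apply, LinearMap.id_apply, LinearMap.comp_apply, map_sub]
    rw [show fR (s (fR x)) = fR x from LinearMap.congr_fun hs (fR x), sub_self]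
  have hle : (LinearMap.ker fR).restrictScalars B ≤ I • (LinearMap.ker fR).restrictScalars B := by
    intro x hx
    have hx' : fR x = 0 := hx
    have hxP : P x = x := by simp [P, hx']
    obtain ⟨x', rfl⟩ : ∃ x', (Ideal.Quotient.mk (I ^ (n + 1)) 1) ⊗ₜ[B] x' = x := by
      clear hx hxP hx'
      induction x using TensorProduct.induction_on with
      | zero => exact ⟨0, tmul_zero _ _⟩
      | add a b ha hb =>
        obtain ⟨a', rfl⟩ := ha
        obtain ⟨b', rfl⟩ := hb
        exact ⟨a' + b', tmul_add _ _ _⟩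
      | tmul a m =>
        obtain ⟨a, rfl⟩ := Ideal.Quotient.mk_surjective a
        refine ⟨a • m, ?_⟩
        rw [tmul_smul, smul_tmul', Algebra.smul_def, map_one, mul_one]
        rfl
    have h1 : f x' ∈ I ^ (n + 1) • (⊤ : Submodule B M) := by
      have h2 := congrArg (TensorProduct.quotTensorEquivQuotSMul M (I ^ (n + 1))) hx'
      rw [LinearMap.baseChange_tmul, map_zero, TensorProduct.quotTensorEquivQuotSMul_mk_tmul, one_smul] at h2
      exact (Submodule.Quotient.mk_eq_zero _).mp h2
    have h3 : x' ∈ I • (⊤ : Submodule B (Fin r → B)) :=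
      hinj x' (Submodule.smul_mono_left (Ideal.pow_le_self n.succ_ne_zero) h1)
    have h4 : (P.restrictScalars B ∘ₗ TensorProduct.mk B R (Fin r → B) 1) x' ∈
        I • LinearMap.range (P.restrictScalars B ∘ₗ TensorProduct.mk B R (Fin r → B) 1) := by
      rw [← Submodule.map_top, ← Submodule.map_smul'']
      exact Submodule.mem_map_of_mem h3
    have h5 : LinearMap.range (P.restrictScalars B ∘ₗ TensorProduct.mk B R (Fin r → B) 1) ≤
        (LinearMap.ker fR).restrictScalars B := by
      rintro _ ⟨y, rfl⟩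
      exact hP _
    have h6 := smul_mono_right I h5 h4
    rw [show (P.restrictScalars B ∘ₗ TensorProduct.mk B R (Fin r → B) 1) x' = (Ideal.Quotient.mk (I ^ (n + 1)) 1) ⊗ₜ[B] x' from hxP] at h6
    exact h6
  have hbot : ∀ j : ℕ, (LinearMap.ker fR).restrictScalars B ≤ I ^ j • (⊤ : Submodule B (R ⊗[B] (Fin r → B))) := by
    intro j
    induction j with
    | zero => rw [pow_zero, Ideal.one_eq_top, Submodule.top_smul]; exact le_top
    | succ j ih =>
      refine hle.trans ((smul_mono_right I ih).trans ?_)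
      rw [← mul_smul, ← pow_succ']
  have hc' : fR ((Ideal.Quotient.mk (I ^ (n + 1)) 1) ⊗ₜ[B] c) = 0 := by
    apply (TensorProduct.quotTensorEquivQuotSMul M (I ^ (n + 1))).injective
    rw [LinearMap.baseChange_tmul, map_zero, TensorProduct.quotTensorEquivQuotSMul_mk_tmul, one_smul]
    exact (Submodule.Quotient.mk_eq_zero _).mpr hc
  have h7 : (Ideal.Quotient.mk (I ^ (n + 1)) 1) ⊗ₜ[B] c = (0 : R ⊗[B] (Fin r → B)) := by
    have h8 := hbot (n + 1) hc'
    refine Submodule.smul_induction_on h8 (fun t ht y _ => ?_) (fun y z hy hz => by rw [hy, hz, add_zero])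
    rw [← algebraMap_smul R t y, show algebraMap B R t = 0 from Ideal.Quotient.eq_zero_iff_mem.mpr ht, zero_smul]
  have h9 := congrArg (TensorProduct.quotTensorEquivQuotSMul (Fin r → B) (I ^ (n + 1))) h7
  rw [map_zero, TensorProduct.quotTensorEquivQuotSMul_mk_tmul, one_smul] at h9
  exact (Submodule.Quotient.mk_eq_zero _).mp h9

/-- The completion is free on a family which is a basis modulo `I`. -/
theorem bijective_of_comp [IsAdicComplete I B] {f : (Fin r → B) →ₗ[B] M} (hf : LinearMap.range f ⊔ I • ⊤ = ⊤)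
    (hinj : ∀ c, f c ∈ I • (⊤ : Submodule B M) → c ∈ I • (⊤ : Submodule B (Fin r → B)))
    (hproj : ∀ n : ℕ, Module.Projective (B ⧸ I ^ (n + 1)) ((B ⧸ I ^ (n + 1)) ⊗[B] M)) :
    Function.Bijective (AdicCompletion.of I M ∘ₗ f) := by
  refine ⟨?_, surjective_of_comp_of_range_sup_eq_top I f hf⟩
  rw [injective_iff_map_eq_zero]
  intro c hc
  funext i
  refine IsHausdorff.haus ‹IsAdicComplete I B›.toIsHausdorff _ fun n => ?_
  rw [SModEq.zero, smul_eq_mul, Ideal.mul_top]
  cases n with
  | zero => simp
  | succ n =>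
    have h1 : f c ∈ I ^ (n + 1) • (⊤ : Submodule B M) := by
      have := congrArg (fun x => x.val (n + 1)) hc
      simpa [AdicCompletion.of_apply, Submodule.Quotient.mk_eq_zero] using this
    haveI := hproj n
    exact (mem_smul_top_pi_iff c _).mp (mem_pow_smul_top_of_projective I hf hinj n c h1) i

open IsLocalRing in
/-- Complete local case: the completion is free of rank the dimension at the residue field. -/
theorem free_adicCompletion {A : Type u} [CommRing A] [IsLocalRing A] [IsAdicComplete (maximalIdeal A) A]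
    (N : Type u) [AddCommGroup N] [Module A N] [Module.Finite (ResidueField A) (ResidueField A ⊗[A] N)]
    (hproj : ∀ n : ℕ, Module.Projective (A ⧸ maximalIdeal A ^ (n + 1)) ((A ⧸ maximalIdeal A ^ (n + 1)) ⊗[A] N)) :
    Module.Free A (AdicCompletion (maximalIdeal A) N) ∧ Module.Finite A (AdicCompletion (maximalIdeal A) N) ∧
      Module.finrank A (AdicCompletion (maximalIdeal A) N) = Module.finrank (ResidueField A) (ResidueField A ⊗[A] N) := by
  classical
  let b := Module.finBasis (ResidueField A) (ResidueField A ⊗[A] N)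
  let e : ResidueField A ⊗[A] N ≃ₗ[A] N ⧸ maximalIdeal A • (⊤ : Submodule A N) :=
    TensorProduct.quotTensorEquivQuotSMul N (maximalIdeal A)
  choose m hm using fun i => Submodule.mkQ_surjective _ (e (b i))
  let f := Fintype.linearCombination A m
  have hfe : ∀ c, (maximalIdeal A • (⊤ : Submodule A N)).mkQ (f c) = e (∑ i, residue A (c i) • b i) := fun c => by
    rw [map_sum, Fintype.linearCombination_apply, map_sum]
    refine Finset.sum_congr rfl fun i _ => ?_
    rw [map_smul, hm, ← map_smul]
    rfl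
  have hf : LinearMap.range f ⊔ maximalIdeal A • ⊤ = ⊤ := by
    rw [← Submodule.ker_mkQ (maximalIdeal A • (⊤ : Submodule A N)), ← Submodule.comap_map_eq, ← LinearMap.range_comp,
      LinearMap.range_eq_top.mpr ?_, Submodule.comap_top]
    intro y
    choose a ha using fun i => residue_surjective (R := A) (b.repr (e.symm y) i)
    refine ⟨a, ?_⟩
    rw [LinearMap.comp_apply, hfe]
    simp only [ha, b.sum_repr, LinearEquiv.apply_symm_apply]
  have hinj : ∀ c, f c ∈ maximalIdeal A • (⊤ : Submodule A N) → c ∈ maximalIdeal A • (⊤ : Submodule A (Fin _ → A)) := by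
    intro c hc
    rw [mem_smul_top_pi_iff]
    intro i
    have h1 := hfe c
    rw [(Submodule.Quotient.mk_eq_zero _).mpr hc |> (show (maximalIdeal A • (⊤ : Submodule A N)).mkQ (f c) = 0 from ·),
      eq_comm, LinearEquiv.map_eq_zero_iff] at h1
    exact (residue_eq_zero_iff _).mp (Fintype.linearIndependent_iff.mp b.linearIndependent _ h1 i)
  let φ := LinearEquiv.ofBijective _ (bijective_of_comp (maximalIdeal A) hf hinj hproj)
  exact ⟨Module.Free.of_equiv φ, Module.Finite.equiv φ, by rw [← φ.finrank_eq, Module.finrank_fin_fun]⟩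

end Groth.Ega41Adic
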