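import Groth.Agent.Ega41Adic.KaehlerRank
import Groth.Agent.Ega41Adic.CompletionFree

/-! The completed differentials of a formally smooth complete local algebra over a field. -/

universe u

namespace Groth.Ega41Adic

open IsLocalRing TensorProduct

theorem completedKaehler_free_rank {k₀ A : Type u} [Field k₀] [CommRing A] [IsLocalRing A] [IsNoetherianRing A]
    [Algebra k₀ A] [IsAdicComplete (maximalIdeal A) A] (hfs : CAlgX.IsAdicFormallySmooth k₀ A (maximalIdeal A))
    [Algebra.EssFiniteType k₀ (ResidueField A)] :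
    Module.Finite A (AdicCompletion (maximalIdeal A) (Ω[A⁄k₀])) ∧ Module.Free A (AdicCompletion (maximalIdeal A) (Ω[A⁄k₀])) ∧
      (Module.finrank A (AdicCompletion (maximalIdeal A) (Ω[A⁄k₀])) : WithBot ℕ∞) =
        ringKrullDim A + (Cardinal.toNat (Algebra.trdeg k₀ (ResidueField A)) : WithBot ℕ∞) := by
  obtain ⟨hfin, t, ht, hrk⟩ := finrank_kaehler_eq hfs
  obtain ⟨h1, h2, h3⟩ := free_adicCompletion Ω[A⁄k₀] fun n =>
    projective_kaehler_quotient_of_isFormallySmoothAdic (isAdicFormallySmooth_iff.mp hfs) ⟨1, by simp⟩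
      (maximalIdeal A ^ (n + 1)) ⟨n + 1, le_rfl⟩
  refine ⟨h2, h1, ?_⟩
  rw [h3, hrk, ht, Cardinal.toNat_natCast]

end Groth.Ega41Adic
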