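import Mathlib.RingTheory.AdicCompletion.Basic
import Mathlib.RingTheory.Finiteness.Basic
import Mathlib.RingTheory.Ideal.Cotangent
import Mathlib.RingTheory.Kaehler.Basic
import Mathlib.RingTheory.Smooth.Kaehler

/-! Finiteness of adic completions of modules over complete rings. -/

universe u v

namespace Groth.Ega41Adic

variable {B : Type u} [CommRing B] (I : Ideal B) {M : Type v} [AddCommGroup M] [Module B M] {r : ℕ}

theorem mem_smul_top_pi_iff {k : ℕ} (c : Fin k → B) (J : Ideal B) :
    c ∈ J • (⊤ : Submodule B (Fin k → B)) ↔ ∀ i, c i ∈ J := by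
  constructor
  · intro h i
    refine Submodule.smul_induction_on h (fun a ha m _ => ?_) fun a b ha hb => J.add_mem ha hb
    exact Ideal.mul_mem_right _ _ ha
  · intro h
    rw [pi_eq_sum_univ c]
    exact sum_mem fun i _ => Submodule.smul_mem_smul (h i) trivial

/-- A family generating modulo `I` generates the completion topologically and, `B` being complete, exactly. -/
theorem surjective_of_comp_of_range_sup_eq_top [IsPrecomplete I B] (f : (Fin r → B) →ₗ[B] M)
    (hf : LinearMap.range f ⊔ I • ⊤ = ⊤) : Function.Surjective (AdicCompletion.of I M ∘ₗ f) := by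
  have hn : ∀ n, ∀ d ∈ I ^ n • (⊤ : Submodule B M),
      ∃ c ∈ I ^ n • (⊤ : Submodule B (Fin r → B)), d - f c ∈ I ^ (n + 1) • (⊤ : Submodule B M) := by
    intro n d hd
    rw [← hf, Submodule.smul_sup, ← mul_smul, ← pow_succ, ← Submodule.map_top, ← Submodule.map_smul''] at hd
    obtain ⟨_, ⟨c, hc, rfl⟩, e, he, rfl⟩ := Submodule.mem_sup.mp hd
    exact ⟨c, hc, by simpa using he⟩
  intro x
  obtain ⟨⟨a, ha⟩, rfl⟩ := AdicCompletion.mk_surjective I M x
  have hstep : ∀ (n : ℕ) (b : Fin r → B), a n - f b ∈ I ^ n • (⊤ : Submodule B M) →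
      ∃ b' : Fin r → B, b' - b ∈ I ^ n • (⊤ : Submodule B (Fin r → B)) ∧
        a (n + 1) - f b' ∈ I ^ (n + 1) • (⊤ : Submodule B M) := by
    intro n b hb
    have h1 : a (n + 1) - f b ∈ I ^ n • (⊤ : Submodule B M) := by
      have := (SModEq.sub_mem).mp (ha n.le_succ)
      rw [show a (n + 1) - f b = (a n - f b) - (a n - a (n + 1)) by abel]
      exact sub_mem hb this
    obtain ⟨c, hc, hc'⟩ := hn n _ h1
    exact ⟨b + c, by simpa using hc, by rwa [map_add, ← sub_sub]⟩
  have h0 : a 0 - f 0 ∈ I ^ 0 • (⊤ : Submodule B M) := by simp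
  let s : ∀ n, { b : Fin r → B // a n - f b ∈ I ^ n • (⊤ : Submodule B M) } := fun n =>
    n.rec ⟨0, h0⟩ fun n b => ⟨(hstep n b.1 b.2).choose, (hstep n b.1 b.2).choose_spec.2⟩
  have hs : ∀ n, (s (n + 1)).1 - (s n).1 ∈ I ^ n • (⊤ : Submodule B (Fin r → B)) := fun n =>
    (hstep n (s n).1 (s n).2).choose_spec.1
  have hcauchy : ∀ {m n}, m ≤ n → (s m).1 - (s n).1 ∈ I ^ m • (⊤ : Submodule B (Fin r → B)) := by
    intro m n hmn
    induction n, hmn using Nat.le_induction with
    | base => simp
    | succ n hmn ih =>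
      rw [show (s m).1 - (s (n + 1)).1 = ((s m).1 - (s n).1) - ((s (n + 1)).1 - (s n).1) by abel]
      exact sub_mem ih (Submodule.smul_mono_left (Ideal.pow_le_pow_right hmn) (hs n))
  have hlim : ∀ i, ∃ L : B, ∀ n, (s n).1 i - L ∈ I ^ n := fun i => by
    obtain ⟨L, hL⟩ := IsPrecomplete.prec ‹IsPrecomplete I B› (f := fun n => (s n).1 i) (fun {m n} hmn => by
      rw [SModEq.sub_mem, smul_eq_mul, Ideal.mul_top]
      exact (mem_smul_top_pi_iff _ _).mp (hcauchy hmn) i)
    exact ⟨L, fun n => by simpa [SModEq.sub_mem] using hL n⟩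
  choose L hL using hlim
  refine ⟨L, AdicCompletion.ext fun n => ?_⟩
  rw [LinearMap.comp_apply, AdicCompletion.of_apply]
  show Submodule.Quotient.mk (f L) = Submodule.Quotient.mk (a n)
  rw [Submodule.Quotient.eq]
  have h2 : f ((s n).1 - L) ∈ I ^ n • (⊤ : Submodule B M) := by
    have h3 : f ((s n).1 - L) ∈ (I ^ n • (⊤ : Submodule B (Fin r → B))).map f :=
      Submodule.mem_map_of_mem ((mem_smul_top_pi_iff _ _).mpr fun i => hL i n)
    rw [Submodule.map_smul''] at h3
    exact (smul_mono_right (I ^ n) (le_top : _ ≤ (⊤ : Submodule B M)) :) h3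
  rw [show f L - a n = -(f ((s n).1 - L)) - (a n - f (s n).1) by rw [map_sub]; abel]
  exact sub_mem (neg_mem h2) (s n).2

/-- If `M / I M` is finite then the completion of `M` is finite over the complete ring `B`. -/
theorem finite_adicCompletion [IsPrecomplete I B] [Module.Finite B (M ⧸ I • (⊤ : Submodule B M))] :
    Module.Finite B (AdicCompletion I M) := by
  obtain ⟨n, g, hg⟩ := Module.Finite.exists_fin (R := B) (M := M ⧸ I • (⊤ : Submodule B M))
  choose m hm using fun i => Submodule.mkQ_surjective (I • (⊤ : Submodule B M)) (g i)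
  let f := Fintype.linearCombination B m
  refine Module.Finite.of_surjective _ (surjective_of_comp_of_range_sup_eq_top I f ?_)
  rw [← Submodule.ker_mkQ (I • (⊤ : Submodule B M)), ← Submodule.comap_map_eq, Fintype.range_linearCombination,
    Submodule.map_span, ← Set.range_comp, show (I • (⊤ : Submodule B M)).mkQ ∘ m = g from funext hm, hg,
    Submodule.comap_top]

open TensorProduct in
/-- Completed differentials are finite when the residual differentials and `I/I²` are. -/
theorem finite_adicCompletion_kaehler {A : Type u} [CommRing A] [Algebra A B] [IsPrecomplete I B]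
    [Module.Finite (B ⧸ I) Ω[B ⧸ I⁄A]] [Module.Finite (B ⧸ I) I.Cotangent] :
    Module.Finite B (AdicCompletion I Ω[B⁄A]) := by
  haveI : Module.Finite B Ω[B ⧸ I⁄A] := Module.Finite.trans (B ⧸ I) _
  haveI : Module.Finite B I.Cotangent := Module.Finite.trans (B ⧸ I) _
  have hker : RingHom.ker (algebraMap B (B ⧸ I)) = I := Ideal.mk_ker
  haveI : Module.Finite B (RingHom.ker (algebraMap B (B ⧸ I))).Cotangent := hker.symm ▸ ‹Module.Finite B I.Cotangent›
  have hex := KaehlerDifferential.exact_kerCotangentToTensor_mapBaseChange A B (B ⧸ I) Ideal.Quotient.mk_surjective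
  haveI : Module.Finite B ((B ⧸ I) ⊗[B] Ω[B⁄A]) := by
    refine ⟨Submodule.fg_of_fg_map_of_fg_inf_ker ((KaehlerDifferential.mapBaseChange A B (B ⧸ I)).restrictScalars B) ?_ ?_⟩
    · rw [Submodule.map_top, LinearMap.range_eq_top.mpr (fun y : Ω[B ⧸ I⁄A] => show ∃ x, ((KaehlerDifferential.mapBaseChange A B (B ⧸ I)).restrictScalars B) x = y from KaehlerDifferential.mapBaseChange_surjective A B (B ⧸ I) Ideal.Quotient.mk_surjective y)]
      exact Module.Finite.fg_top
    · have hex' : Function.Exact (KaehlerDifferential.kerCotangentToTensor A B (B ⧸ I))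
          ((KaehlerDifferential.mapBaseChange A B (B ⧸ I)).restrictScalars B) := hex
      rw [top_inf_eq, LinearMap.exact_iff.mp hex', ← Submodule.map_top]
      exact (Module.Finite.fg_top : (⊤ : Submodule B (RingHom.ker (algebraMap B (B ⧸ I))).Cotangent).FG).map
        (KaehlerDifferential.kerCotangentToTensor A B (B ⧸ I))
  haveI : Module.Finite B (Ω[B⁄A] ⧸ I • (⊤ : Submodule B Ω[B⁄A])) :=
    Module.Finite.equiv (TensorProduct.quotTensorEquivQuotSMul Ω[B⁄A] I)
  exact finite_adicCompletion I

end Groth.Ega41Adic
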