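import Groth.Agent.Ega41Adic.Basic
import Mathlib.RingTheory.Kaehler.Basic
import Mathlib.Algebra.TrivSqZeroExt.Basic
import Mathlib.RingTheory.AdicCompletion.Basic

/-! Formal unramifiedness for adic topologies. -/

universe u

namespace Groth.Ega41Adic

open KaehlerDifferential

variable {A B : Type u} [CommRing A] [CommRing B] [Algebra A B] {𝔞 : Ideal A} {𝔟 : Ideal B}

theorem subsingleton_adicCompletion_iff (M : Type u) [AddCommGroup M] [Module B M] :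
    Subsingleton (AdicCompletion 𝔟 M) ↔ (𝔟 • ⊤ : Submodule B M) = ⊤ := by
  constructor
  · intro h
    rw [eq_top_iff]
    intro m _
    have h1 := congrArg (fun x => AdicCompletion.eval 𝔟 M 1 x) (Subsingleton.elim (AdicCompletion.of 𝔟 M m) 0)
    simp only [map_zero, AdicCompletion.eval_of, Submodule.mkQ_apply, Submodule.Quotient.mk_eq_zero, pow_one] at h1
    exact h1
  · intro h
    have hn : ∀ n : ℕ, (𝔟 ^ n • ⊤ : Submodule B M) = ⊤ := fun n => by
      induction n with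
      | zero => simp
      | succ n ih => rw [pow_succ, Submodule.mul_smul, h, ih]
    refine ⟨fun x y => AdicCompletion.ext fun n => ?_⟩
    obtain ⟨a, ha⟩ := Submodule.Quotient.mk_surjective _ (x.val n)
    obtain ⟨b, hb⟩ := Submodule.Quotient.mk_surjective _ (y.val n)
    rw [← ha, ← hb, Submodule.Quotient.eq, hn]
    trivial

/-- If `Ω = 𝔟Ω`, lifts are unique. -/
theorem eq_of_kaehler_eq (h : (𝔟 • ⊤ : Submodule B Ω[B⁄A]) = ⊤) {E : Type u} [CommRing E] [Algebra A E]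
    {J : Ideal E} (hJ : IsNilpotent J) (v₁ v₂ : B →ₐ[A] E) {m : ℕ} (h₁ : ∀ x ∈ 𝔟 ^ m, v₁ x = 0)
    (heq : ∀ b, Ideal.Quotient.mk J (v₁ b) = Ideal.Quotient.mk J (v₂ b)) : v₁ = v₂ := by
  letI : Algebra B E := v₁.toRingHom.toAlgebra
  haveI : IsScalarTower A B E := IsScalarTower.of_algebraMap_eq fun a => (v₁.commutes a).symm
  have hn : ∀ n : ℕ, (𝔟 ^ n • ⊤ : Submodule B Ω[B⁄A]) = ⊤ := fun n => by
    induction n with
    | zero => simp
    | succ n ih => rw [pow_succ, Submodule.mul_smul, h, ih]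
  have step : ∀ i : ℕ, ∀ b, v₁ b - v₂ b ∈ J ^ (i + 1) := by
    intro i
    induction i with
    | zero => intro b; rw [zero_add, pow_one, ← Ideal.Quotient.eq]; exact heq b
    | succ i ih =>
        intro b
        let L : B →ₗ[A] E ⧸ J ^ (i + 2) :=
          { toFun := fun b => Ideal.Quotient.mk _ (v₂ b - v₁ b)
            map_add' := fun a b => by simp [map_add]; ring
            map_smul' := fun c b => by
              simp only [map_smul, ← smul_sub, RingHom.id_apply]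
              exact (Submodule.Quotient.mk_smul _ c _) }
        let D : Derivation A B (E ⧸ J ^ (i + 2)) := Derivation.mk' L fun a b => by
          show Ideal.Quotient.mk _ (v₂ (a * b) - v₁ (a * b)) =
            Ideal.Quotient.mk _ (v₁ a) * Ideal.Quotient.mk _ (v₂ b - v₁ b) +
            Ideal.Quotient.mk _ (v₁ b) * Ideal.Quotient.mk _ (v₂ a - v₁ a)
          rw [← map_mul, ← map_mul, ← map_add, Ideal.Quotient.eq, map_mul, map_mul,
            show v₂ a * v₂ b - v₁ a * v₁ b - (v₁ a * (v₂ b - v₁ b) + v₁ b * (v₂ a - v₁ a)) =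
              (v₁ a - v₂ a) * (v₁ b - v₂ b) from by ring]
          refine Ideal.pow_le_pow_right (by omega : i + 2 ≤ (i + 1) + (i + 1)) ?_
          rw [pow_add]
          exact Ideal.mul_mem_mul (ih a) (ih b)
        have hzero : ∀ ω ∈ (𝔟 ^ m • ⊤ : Submodule B Ω[B⁄A]), D.liftKaehlerDifferential ω = 0 := by
          intro ω hω
          refine Submodule.smul_induction_on hω (fun x hx y _ => ?_) (fun x y hx hy => by rw [map_add, hx, hy, add_zero])
          rw [map_smul, ← algebraMap_smul E x]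
          show v₁ x • _ = _
          rw [h₁ x hx, zero_smul]
        have h2 := hzero (KaehlerDifferential.D A B b) (by rw [hn]; trivial)
        rw [Derivation.liftKaehlerDifferential_comp_D] at h2
        have h3 : v₂ b - v₁ b ∈ J ^ (i + 2) := Ideal.Quotient.eq_zero_iff_mem.mp h2
        rw [show v₁ b - v₂ b = -(v₂ b - v₁ b) from by ring]
        exact (J ^ (i + 2)).neg_mem h3
  obtain ⟨t, ht⟩ := hJ
  refine AlgHom.ext fun b => sub_eq_zero.mp ?_
  have := Ideal.pow_le_pow_right (Nat.le_succ t) (step t b)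
  rw [ht] at this
  simpa using this

/-- The test algebra detecting `Ω / 𝔟Ω`. -/
theorem kaehler_eq_of_unique (hab : 𝔞.map (algebraMap A B) ≤ 𝔟 ∨ ∃ k : ℕ, (𝔞 ^ k).map (algebraMap A B) ≤ 𝔟)
    (h : ∀ (E : Type u) [CommRing E] [Algebra A E], (∃ k : ℕ, (𝔞 ^ k).map (algebraMap A E) = ⊥) →
      ∀ J : Ideal E, IsNilpotent J → ∀ v₁ v₂ : B →ₐ[A] E,
        (∀ x ∈ 𝔟 ^ 2, v₁ x = 0) → (∀ x ∈ 𝔟 ^ 2, v₂ x = 0) →
        (∀ b : B, Ideal.Quotient.mk J (v₁ b) = Ideal.Quotient.mk J (v₂ b)) → v₁ = v₂) :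
    (𝔟 • ⊤ : Submodule B Ω[B⁄A]) = ⊤ := by
  obtain ⟨k, hk⟩ : ∃ k : ℕ, (𝔞 ^ k).map (algebraMap A B) ≤ 𝔟 :=
    hab.elim (fun h => ⟨1, by rwa [pow_one]⟩) id
  letI : Module (B ⧸ 𝔟)ᵐᵒᵖ (Ω[B⁄A] ⧸ (𝔟 • ⊤ : Submodule B Ω[B⁄A])) := Module.compHom _ ((RingHom.id (B ⧸ 𝔟)).fromOpposite mul_comm)
  haveI : IsCentralScalar (B ⧸ 𝔟) (Ω[B⁄A] ⧸ (𝔟 • ⊤ : Submodule B Ω[B⁄A])) := ⟨fun b m => rfl⟩
  let d : Derivation A B (Ω[B⁄A] ⧸ (𝔟 • ⊤ : Submodule B Ω[B⁄A])) := (Submodule.mkQ (𝔟 • ⊤ : Submodule B Ω[B⁄A])).compDer (D A B)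
  have hd : ∀ a b, d (a * b) = Ideal.Quotient.mk 𝔟 a • d b + Ideal.Quotient.mk 𝔟 b • d a := fun a b => d.leibniz a b
  let f : B →+* TrivSqZeroExt (B ⧸ 𝔟) (Ω[B⁄A] ⧸ (𝔟 • ⊤ : Submodule B Ω[B⁄A])) :=
    { toFun := fun b => TrivSqZeroExt.inl (Ideal.Quotient.mk 𝔟 b) + TrivSqZeroExt.inr (d b)
      map_one' := by ext <;> simp
      map_mul' := fun a b => by
        ext
        · simp
        · simp [hd]
      map_zero' := by ext <;> simp
      map_add' := fun a b => by ext <;> simp }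
  let g : B →+* TrivSqZeroExt (B ⧸ 𝔟) (Ω[B⁄A] ⧸ (𝔟 • ⊤ : Submodule B Ω[B⁄A])) := (TrivSqZeroExt.inlHom (B ⧸ 𝔟) (Ω[B⁄A] ⧸ (𝔟 • ⊤ : Submodule B Ω[B⁄A]))).comp (Ideal.Quotient.mk 𝔟)
  letI : Algebra A (TrivSqZeroExt (B ⧸ 𝔟) (Ω[B⁄A] ⧸ (𝔟 • ⊤ : Submodule B Ω[B⁄A]))) := (g.comp (algebraMap A B)).toAlgebra
  let v₁ : B →ₐ[A] TrivSqZeroExt (B ⧸ 𝔟) (Ω[B⁄A] ⧸ (𝔟 • ⊤ : Submodule B Ω[B⁄A])) := { g with commutes' := fun a => rfl }
  let v₂ : B →ₐ[A] TrivSqZeroExt (B ⧸ 𝔟) (Ω[B⁄A] ⧸ (𝔟 • ⊤ : Submodule B Ω[B⁄A])) :=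
    { f with
      commutes' := fun a => by
        show f (algebraMap A B a) = g (algebraMap A B a)
        simp [f, g] }
  let J : Ideal (TrivSqZeroExt (B ⧸ 𝔟) (Ω[B⁄A] ⧸ (𝔟 • ⊤ : Submodule B Ω[B⁄A]))) :=
    RingHom.ker (TrivSqZeroExt.fstHom (B ⧸ 𝔟) (B ⧸ 𝔟) (Ω[B⁄A] ⧸ (𝔟 • ⊤ : Submodule B Ω[B⁄A]))).toRingHom
  have hJ : J ^ 2 = ⊥ := by
    rw [sq, eq_bot_iff, Ideal.mul_le]
    intro a ha b hb
    have ha' : a.fst = 0 := ha
    have hb' : b.fst = 0 := hb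
    rw [Ideal.mem_bot]
    ext <;> simp [ha', hb']
  have hv2 : ∀ x ∈ 𝔟, v₂ x ∈ J := fun x hx => by
    show (f x).fst = 0
    simp [f, Ideal.Quotient.eq_zero_iff_mem.mpr hx]
  have heq : v₁ = v₂ := by
    refine h _ ⟨k, ?_⟩ J ⟨2, hJ⟩ v₁ v₂ (fun x hx => ?_) (fun x hx => ?_) fun b => ?_
    · rw [RingHom.algebraMap_toAlgebra, ← Ideal.map_map, Ideal.map_eq_bot_iff_le_ker]
      refine hk.trans fun x hx => ?_
      show g x = 0
      simp [g, Ideal.Quotient.eq_zero_iff_mem.mpr hx]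
    · show g x = 0
      simp [g, Ideal.Quotient.eq_zero_iff_mem.mpr (Ideal.pow_le_self two_ne_zero hx)]
    · have h1 : v₂ x ∈ J ^ 2 :=
        ((Ideal.pow_right_mono (show 𝔟 ≤ J.comap v₂ from hv2) 2).trans (Ideal.le_comap_pow v₂ 2)) hx
      rw [hJ] at h1
      exact Ideal.mem_bot.mp h1
    · rw [Ideal.Quotient.eq]
      show (g b - f b).fst = 0
      simp [g, f]
  refine eq_top_iff.mpr (le_of_eq_of_le (KaehlerDifferential.span_range_derivation A B).symm (Submodule.span_le.mpr ?_))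
  rintro _ ⟨b, rfl⟩
  have h1 := congrArg TrivSqZeroExt.snd (AlgHom.congr_fun heq b)
  change (g b).snd = (f b).snd at h1
  simp [g, f] at h1
  exact (Submodule.Quotient.mk_eq_zero _).mp h1.symm

theorem subsingleton_kaehler_quotient_iff (m : Ideal A) :
    Subsingleton (Ω[B ⧸ m.map (algebraMap A B)⁄A ⧸ m]) ↔
      (m.map (algebraMap A B) • ⊤ : Submodule B Ω[B⁄A]) = ⊤ := by
  set b := m.map (algebraMap A B)
  constructor
  · intro h
    refine eq_top_iff.mpr (le_of_eq_of_le (KaehlerDifferential.span_range_derivation A B).symm (Submodule.span_le.mpr ?_))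
    rintro _ ⟨x, rfl⟩
    have hkill : ∀ r ∈ b, (Submodule.mkQ (b • ⊤ : Submodule B Ω[B⁄A])) (D A B r) = 0 := by
      intro r hr
      induction hr using Submodule.span_induction with
      | mem z hz =>
          obtain ⟨a, -, rfl⟩ := hz
          simp
      | zero => simp
      | add y z _ _ hy hz => rw [map_add, map_add, hy, hz, add_zero]
      | smul c z hz ih =>
          rw [smul_eq_mul, Derivation.leibniz, map_add, map_smul, ih, smul_zero, zero_add,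
            Submodule.mkQ_apply, Submodule.Quotient.mk_eq_zero]
          exact Submodule.smul_mem_smul hz trivial
    letI : Module (A ⧸ m) (Ω[B⁄A] ⧸ (b • ⊤ : Submodule B Ω[B⁄A])) := Module.compHom (Ω[B⁄A] ⧸ (b • ⊤ : Submodule B Ω[B⁄A])) (Ideal.quotientMap b (algebraMap A B) Ideal.le_comap_map)
    haveI : IsScalarTower (A ⧸ m) (B ⧸ b) (Ω[B⁄A] ⧸ (b • ⊤ : Submodule B Ω[B⁄A])) := IsScalarTower.of_algebraMap_smul fun a y => rfl
    let dl : B →ₗ[A] (Ω[B⁄A] ⧸ (b • ⊤ : Submodule B Ω[B⁄A])) := ((Submodule.mkQ (b • ⊤ : Submodule B Ω[B⁄A])).restrictScalars A) ∘ₗ (D A B).toLinearMap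
    let dq : (B ⧸ b) →ₗ[A] (Ω[B⁄A] ⧸ (b • ⊤ : Submodule B Ω[B⁄A])) := (b.restrictScalars A).liftQ dl fun r hr => hkill r hr
    let dq' : (B ⧸ b) →ₗ[A ⧸ m] (Ω[B⁄A] ⧸ (b • ⊤ : Submodule B Ω[B⁄A])) :=
      { toFun := dq
        map_add' := map_add dq
        map_smul' := fun a y => by
          obtain ⟨a, rfl⟩ := Ideal.Quotient.mk_surjective a
          rw [RingHom.id_apply, show (Ideal.Quotient.mk m a) • y = a • y from
            (algebraMap_smul (A ⧸ m) a y), map_smul]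
          exact (algebraMap_smul B a (dq y)).symm }
    let δ : Derivation (A ⧸ m) (B ⧸ b) (Ω[B⁄A] ⧸ (b • ⊤ : Submodule B Ω[B⁄A])) := Derivation.mk' dq' fun y z => by
      obtain ⟨y, rfl⟩ := Ideal.Quotient.mk_surjective y
      obtain ⟨z, rfl⟩ := Ideal.Quotient.mk_surjective z
      exact ((Submodule.mkQ (b • ⊤ : Submodule B Ω[B⁄A])).compDer (D A B)).leibniz y z
    have h1 := δ.liftKaehlerDifferential_comp_D (Ideal.Quotient.mk b x)
    rw [Subsingleton.elim (D (A ⧸ m) (B ⧸ b) (Ideal.Quotient.mk b x)) 0, map_zero] at h1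
    rw [SetLike.mem_coe, ← Submodule.Quotient.mk_eq_zero]
    exact h1.symm
  · intro h
    refine subsingleton_of_forall_eq 0 fun ω => ?_
    obtain ⟨ω, rfl⟩ := KaehlerDifferential.map_surjective_of_surjective A (A ⧸ m) B (B ⧸ b) Ideal.Quotient.mk_surjective ω
    have hω : ω ∈ (b • ⊤ : Submodule B Ω[B⁄A]) := by rw [h]; trivial
    refine Submodule.smul_induction_on hω (fun r hr y _ => ?_) (fun x y hx hy => by rw [map_add, hx, hy, add_zero])
    rw [map_smul, ← algebraMap_smul (B ⧸ b) r, Ideal.Quotient.algebraMap_eq,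
      Ideal.Quotient.eq_zero_iff_mem.mpr hr, zero_smul]

end Groth.Ega41Adic
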